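import Cfsg.Agent.Lib.AltCentClasses.Model

/-!
Elementary abelian subgroups of order `2 ^ (2n)` of the wreath product, and their involutory automorphisms.
-/

set_option autoImplicit false
set_option linter.style.haveILetI false

namespace CfsgLib.AltCentClasses

open Equiv

variable {n : ℕ}

/-- The vector is constant on the orbits of `r` and the permutation moves points only along `r`. -/
def InAS (r : Perm (I n)) (x : W n) : Prop :=
  (∀ i, x.v (r i) = x.v i) ∧ ∀ i, x.σ i = i ∨ x.σ i = r i

namespace InAS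

variable {r : Perm (I n)} {x y : W n}

theorem rr_apply (hr : r * r = 1) (i : I n) : r (r i) = i := by rw [← Perm.mul_apply, hr]; rfl

/-- Two permutations moving only along `r` with the same value at a point agree at its partner. -/
theorem agree (hr : r * r = 1) {p q : Perm (I n)} (hp : ∀ i, p i = i ∨ p i = r i)
    (hq : ∀ i, q i = i ∨ q i = r i) {i : I n} (h : p i = q i) : p (r i) = q (r i) := by
  by_cases hi : r i = i
  · rw [hi]; exact h
  have key : ∀ p : Perm (I n), (∀ i, p i = i ∨ p i = r i) → (p i = i → p (r i) = r i) ∧ (p i = r i → p (r i) = i) := by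
    intro p hp
    have h1 := hp (r i)
    rw [rr_apply hr] at h1
    exact ⟨fun e => h1.resolve_right fun e' => hi (p.injective (e'.trans e.symm)),
      fun e => h1.resolve_left fun e' => hi (p.injective (e'.trans e.symm))⟩
  rcases hp i with e | e
  · rw [(key p hp).1 e, (key q hq).1 (h ▸ e)]
  · rw [(key p hp).2 e, (key q hq).2 (h ▸ e)]

theorem invol (hr : r * r = 1) (hx : InAS r x) (i : I n) : x.σ (x.σ i) = i := by
  rcases hx.2 i with e | e
  · rw [e, e]
  · rw [e]
    rcases hx.2 (r i) with e' | e'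
    · rw [e', x.σ.injective (e'.trans e.symm)]
    · rw [e', rr_apply hr]

theorem inv_eq (hr : r * r = 1) (hx : InAS r x) : x.σ⁻¹ = x.σ :=
  inv_eq_of_mul_eq_one_right (Perm.ext fun i => invol hr hx i)

theorem v_σ (hx : InAS r x) (hy : InAS r y) (i : I n) : x.v (y.σ i) = x.v i := by
  rcases hy.2 i with e | e
  · rw [e]
  · rw [e, hx.1]

theorem mul (hr : r * r = 1) (hx : InAS r x) (hy : InAS r y) : InAS r (x * y) := by
  constructor
  · intro i
    rw [mul_v, mul_v, inv_eq hr hx, v_σ hy hx, v_σ hy hx, hx.1, hy.1]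
  · intro i
    rw [mul_σ, Perm.mul_apply]
    rcases hy.2 i with e | e
    · rw [e]; exact hx.2 i
    · rw [e]
      rcases hx.2 (r i) with e' | e'
      · exact Or.inr e'
      · exact Or.inl (e'.trans (rr_apply hr i))

theorem comm (hr : r * r = 1) (hx : InAS r x) (hy : InAS r y) : x * y = y * x := by
  refine comm_iff.mpr ⟨Perm.ext fun i => ?_, fun i => ?_⟩
  · rw [Perm.mul_apply, Perm.mul_apply]
    rcases hx.2 i with e | e <;> rcases hy.2 i with e' | e'
    · rw [e', e, e']
    · rw [e', e, e']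
      rcases hx.2 (r i) with e2 | e2
      · exact e2
      · have h2 := x.σ.injective (show x.σ (r i) = x.σ i by rw [e2, rr_apply hr, e])
        rw [e2, rr_apply hr]; exact h2.symm
    · rw [e', e]
      rcases hy.2 (r i) with e2 | e2
      · exact e2.symm
      · have h2 := y.σ.injective (show y.σ (r i) = y.σ i by rw [e2, rr_apply hr, e'])
        rw [e2, rr_apply hr]; exact h2
    · rw [e', e]
      rcases hx.2 (r i) with e2 | e2 <;> rcases hy.2 (r i) with e3 | e3
      · rw [e2, e3]
      · rw [e2, e3, rr_apply hr]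
        exact x.σ.injective (e2.trans e.symm)
      · rw [e2, e3, rr_apply hr]
        exact (y.σ.injective (e3.trans e'.symm)).symm
      · rw [e2, e3]
  · rw [inv_eq hr hx, inv_eq hr hy, v_σ hy hx, v_σ hx hy, add_comm]

theorem sq (hr : r * r = 1) (hx : InAS r x) : x * x = 1 :=
  sq_iff.mpr ⟨Perm.ext fun i => invol hr hx i, fun i => v_σ hx hx i⟩

theorem inv (hr : r * r = 1) (hx : InAS r x) : x⁻¹ = x := inv_eq_of_mul_eq_one_right (sq hr hx)

theorem ev (r : Perm (I n)) {v : I n → ZMod 2} (h : ∀ i, v (r i) = v i) : InAS r (ev v) :=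
  ⟨h, fun _ => Or.inl rfl⟩

theorem pp (r : Perm (I n)) {σ : Perm (I n)} (h : ∀ i, σ i = i ∨ σ i = r i) : InAS r (pp σ) :=
  ⟨fun _ => rfl, h⟩

end InAS

/-- The projection on the permutation. -/
def projσ : W n →* Perm (I n) where
  toFun x := x.σ
  map_one' := rfl
  map_mul' _ _ := rfl

/-- An elementary abelian subgroup of the largest order is given by an involutive permutation. -/
theorem exists_r (A : Subgroup (W n)) (hc : ∀ a ∈ A, ∀ b ∈ A, a * b = b * a) (hs : ∀ a ∈ A, a * a = 1)
    (hcard : 2 ^ (2 * n) ≤ Nat.card A) : ∃ r : Perm (I n), r * r = 1 ∧ ∀ x, x ∈ A ↔ InAS r x := by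
  classical
  let P := A.map projσ
  let O := MulAction.orbitRel.Quotient P (I n)
  haveI : Fintype O := Fintype.ofFinite _
  let f : A →* Perm (I n) := projσ.comp A.subtype
  have hcommP : ∀ p ∈ P, ∀ q ∈ P, p * q = q * p := by
    rintro _ ⟨a, ha, rfl⟩ _ ⟨b, hb, rfl⟩
    rw [← map_mul, hc a ha b hb, map_mul]
  have hinvP : ∀ p ∈ P, ∀ i, p (p i) = i := by
    rintro _ ⟨a, ha, rfl⟩ i
    exact Perm.ext_iff.mp (congrArg W.σ (hs a ha)) i
  -- the kernel
  let kfun : f.ker → (O → ZMod 2) := fun x o => (x : A).1.v o.out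
  have hkinv : ∀ (x : f.ker) (p : Perm (I n)), p ∈ P → ∀ i, (x : A).1.v (p i) = (x : A).1.v i := by
    rintro ⟨⟨a, ha⟩, hak⟩ _ ⟨b, hb, rfl⟩ i
    have ea : a = ev a.v := eq_ev (MonoidHom.mem_ker.mp hak)
    have h1 := hc b hb a ha
    rw [ea] at h1
    exact comm_ev_iff.mp h1 i
  have hrep : ∀ i : I n, ∃ p : P, (p : Perm (I n)) (Quotient.mk (MulAction.orbitRel P (I n)) i).out = i := by
    intro i
    obtain ⟨p, hp⟩ := MulAction.orbitRel_apply.mp
      ((MulAction.orbitRel P (I n)).symm (Quotient.mk_out (s := MulAction.orbitRel P (I n)) i))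
    exact ⟨p, hp⟩
  have hk : Function.Injective kfun := by
    intro x y hxy
    have e : (x : A).1.v = (y : A).1.v := funext fun i => by
      obtain ⟨p, hp⟩ := hrep i
      rw [← hp, hkinv x p p.2, hkinv y p p.2]
      exact congrFun hxy _
    exact Subtype.ext (Subtype.ext (W.ext e
      ((MonoidHom.mem_ker.mp x.2 : (x : A).1.σ = 1).trans (MonoidHom.mem_ker.mp y.2 : (y : A).1.σ = 1).symm)))
  -- the permutations
  let pfun : P → ((o : O) → MulAction.orbit P o.out) := fun p o => ⟨p • o.out, MulAction.mem_orbit _ _⟩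
  have hp : Function.Injective pfun := by
    intro p q hpq
    refine Subtype.ext (Perm.ext fun i => ?_)
    obtain ⟨s, hs'⟩ := hrep i
    have e : (p : Perm (I n)) _ = (q : Perm (I n)) _ :=
      congrArg Subtype.val (congrFun hpq (Quotient.mk (MulAction.orbitRel P (I n)) i))
    rw [← hs', ← Perm.mul_apply, ← Perm.mul_apply, hcommP p p.2 s s.2, hcommP q q.2 s s.2, Perm.mul_apply,
      Perm.mul_apply, e]
  -- counting
  let sz : O → ℕ := fun o => Nat.card (MulAction.orbit P o.out)
  have hsum : ∑ o, sz o = 2 * n := by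
    have := Nat.card_congr (MulAction.selfEquivSigmaOrbits P (I n))
    rw [Nat.card_sigma, Nat.card_eq_fintype_card, Fintype.card_prod, Fintype.card_fin, Fintype.card_bool] at this
    rw [mul_comm, this]
  have hrange : f.range = P := by rw [MonoidHom.range_comp, Subgroup.range_subtype]
  have hA : Nat.card A = Nat.card f.ker * Nat.card P := by
    rw [Subgroup.card_eq_card_quotient_mul_card_subgroup f.ker, mul_comm,
      Nat.card_congr (QuotientGroup.quotientKerEquivRange f).toEquiv, hrange]
  have hK : Nat.card (O → ZMod 2) = ∏ _o : O, 2 := by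
    rw [Nat.card_fun, Nat.card_eq_fintype_card (α := ZMod 2), ZMod.card, Finset.prod_const, Finset.card_univ,
      Nat.card_eq_fintype_card]
  have hP : Nat.card ((o : O) → MulAction.orbit P o.out) = ∏ o : O, sz o := by rw [Nat.card_pi]
  have h1 : Nat.card f.ker ≤ ∏ _o : O, 2 := hK ▸ Nat.card_le_card_of_injective _ hk
  have h2 : Nat.card P ≤ ∏ o : O, sz o := hP ▸ Nat.card_le_card_of_injective _ hp
  have hpos : ∀ o, 1 ≤ sz o := fun o => by
    have : Nonempty (MulAction.orbit P o.out) := ⟨⟨o.out, MulAction.mem_orbit_self _⟩⟩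
    exact Nat.card_pos
  have hpow : ∀ s, 1 ≤ s → 2 * s ≤ 2 ^ s ∧ (2 * s = 2 ^ s → s ≤ 2) := by
    intro s hs1
    induction s with
    | zero => omega
    | succ k ih =>
      rcases Nat.eq_zero_or_pos k with rfl | hk1
      · simp
      · obtain ⟨a, b⟩ := ih hk1
        have : 2 ≤ 2 ^ k := by
          calc 2 = 2 ^ 1 := rfl
            _ ≤ _ := Nat.pow_le_pow_right two_pos hk1
        rw [pow_succ]
        refine ⟨by omega, fun e => ?_⟩
        by_contra hlt
        have hb : 2 * k ≠ 2 ^ k → False := fun hne => by omega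
        have : 2 * k = 2 ^ k := by by_contra hne; exact hb hne
        omega
  have h3 : ∏ o : O, 2 * sz o ≤ ∏ o : O, 2 ^ sz o :=
    Finset.prod_le_prod (fun o _ => Nat.zero_le _) fun o _ => (hpow _ (hpos o)).1
  have h4 : ∏ o : O, 2 ^ sz o = 2 ^ (2 * n) := by rw [Finset.prod_pow_eq_pow_sum, hsum]
  have h5 : Nat.card f.ker * Nat.card P ≤ (∏ _o : O, 2) * ∏ o : O, sz o := Nat.mul_le_mul h1 h2
  rw [← Finset.prod_mul_distrib] at h5
  have heq : ∀ o, 2 * sz o = 2 ^ sz o := by
    intro o
    by_contra hne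
    have : ∏ o : O, 2 * sz o < ∏ o : O, 2 ^ sz o :=
      Finset.prod_lt_prod (fun o _ => Nat.mul_pos two_pos (hpos o)) (fun o _ => (hpow _ (hpos o)).1)
        ⟨o, Finset.mem_univ _, lt_of_le_of_ne (hpow _ (hpos o)).1 hne⟩
    omega
  have hprod : Nat.card f.ker * Nat.card P = (∏ _o : O, 2) * ∏ o : O, sz o := by
    refine le_antisymm (Nat.mul_le_mul h1 h2) ?_
    rw [← Finset.prod_mul_distrib]
    omega
  have hkeq : Nat.card f.ker = ∏ _o : O, 2 := by
    rcases h1.eq_or_lt with e | e
    · exact e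
    · exfalso
      have h6 : 0 < ∏ o : O, sz o := Finset.prod_pos fun o _ => hpos o
      have := Nat.mul_lt_mul_of_lt_of_le e h2 h6
      omega
  have hpeq : Nat.card P = ∏ o : O, sz o := by
    rw [hkeq] at hprod
    exact Nat.eq_of_mul_eq_mul_left (Finset.prod_pos fun _ _ => two_pos) hprod
  have hksurj : Function.Surjective kfun :=
    (hk.bijective_of_nat_card_le (hK.trans hkeq.symm).le).2
  have hpsurj : Function.Surjective pfun :=
    (hp.bijective_of_nat_card_le (hP.trans hpeq.symm).le).2
  -- two points in an orbit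
  have two : ∀ (i : I n) (p q : Perm (I n)), p ∈ P → q ∈ P → p i ≠ i → q i ≠ i → p i = q i := by
    intro i p q hp' hq' hpi hqi
    by_contra hne
    have horb : MulAction.orbit P i = MulAction.orbit P (Quotient.mk (MulAction.orbitRel P (I n)) i).out := by
      refine (MulAction.orbit_eq_iff).mpr ?_
      obtain ⟨s, hs'⟩ := hrep i
      exact ⟨s, hs'⟩
    have h6 : Nat.card (MulAction.orbit P i) ≤ 2 := by
      rw [horb]
      exact (hpow _ (hpos _)).2 (heq _)
    have h7 : ({i, p i, q i} : Set (I n)) ⊆ MulAction.orbit P i := by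
      rintro j (rfl | rfl | rfl)
      exacts [MulAction.mem_orbit_self _, ⟨⟨p, hp'⟩, rfl⟩, ⟨⟨q, hq'⟩, rfl⟩]
    have h8 := Set.ncard_le_ncard h7
    rw [Set.ncard_eq_three.mpr ⟨i, p i, q i, Ne.symm hpi, Ne.symm hqi, hne, rfl⟩, ← Nat.card_coe_set_eq] at h8
    omega
  let rf : I n → I n := fun i => if h : ∃ p ∈ P, p i ≠ i then h.choose i else i
  have hrf : ∀ (i : I n) (p : Perm (I n)), p ∈ P → p i ≠ i → rf i = p i := by
    intro i p hp' hpi
    have h : ∃ p ∈ P, p i ≠ i := ⟨p, hp', hpi⟩
    show (if h : ∃ p ∈ P, p i ≠ i then h.choose i else i) = p i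
    rw [dif_pos h]
    exact two i _ p h.choose_spec.1 hp' h.choose_spec.2 hpi
  have hrinv : ∀ i, rf (rf i) = i := by
    intro i
    by_cases h : ∃ p ∈ P, p i ≠ i
    · obtain ⟨p, hp', hpi⟩ := h
      rw [hrf i p hp' hpi, hrf (p i) p hp' fun e => hpi (p.injective e)]
      exact hinvP p hp' i
    · have e : rf i = i := dif_neg h
      rw [e, e]
  refine ⟨⟨rf, rf, hrinv, hrinv⟩, Perm.ext hrinv, ?_⟩
  have hpat : ∀ p ∈ P, ∀ i, p i = i ∨ p i = rf i := fun p hp' i => by
    by_cases h : p i = i
    · exact Or.inl h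
    · exact Or.inr (hrf i p hp' h).symm
  have hmemP : ∀ a ∈ A, a.σ ∈ P := fun a ha => Subgroup.mem_map_of_mem projσ ha
  have hto : ∀ a ∈ A, InAS ⟨rf, rf, hrinv, hrinv⟩ a := by
    intro a ha
    refine ⟨fun i => ?_, hpat _ (hmemP a ha)⟩
    show a.v (rf i) = a.v i
    by_cases h : ∃ p ∈ P, p i ≠ i
    · obtain ⟨p, hp', hpi⟩ := h
      rw [hrf i p hp' hpi]
      obtain ⟨b, hb, rfl⟩ := hp'
      rcases hpat _ (hmemP a ha) i with e | e
      · have h9 := (comm_iff.mp (hc a ha b hb)).2 i
        rw [inv_eq_of_mul_eq_one_right (congrArg W.σ (hs a ha) : a.σ * a.σ = 1),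
          inv_eq_of_mul_eq_one_right (congrArg W.σ (hs b hb) : b.σ * b.σ = 1), e, add_comm] at h9
        exact (add_left_cancel h9).symm
      · rw [show projσ b i = rf i from (hrf i _ (Subgroup.mem_map_of_mem projσ hb) hpi).symm, ← e]
        exact (sq_iff.mp (hs a ha)).2 i
    · rw [show rf i = i from dif_neg h]
  intro x
  refine ⟨hto x, fun hx => ?_⟩
  -- a member with the same permutation
  have hmem : ∀ o : O, x.σ o.out ∈ MulAction.orbit P o.out := by
    intro o
    rcases hx.2 o.out with e | e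
    · rw [e]; exact MulAction.mem_orbit_self _
    · rw [e]
      show rf o.out ∈ _
      by_cases h : ∃ p ∈ P, p o.out ≠ o.out
      · rw [hrf _ h.choose h.choose_spec.1 h.choose_spec.2]
        exact ⟨⟨_, h.choose_spec.1⟩, rfl⟩
      · rw [show rf o.out = o.out from dif_neg h]
        exact MulAction.mem_orbit_self _
  obtain ⟨⟨p, a, ha, rfl⟩, hpa⟩ := hpsurj fun o => ⟨_, hmem o⟩
  have hσ : a.σ = x.σ := by
    refine Perm.ext fun i => ?_
    obtain ⟨s, hs'⟩ := hrep i
    set o := (Quotient.mk (MulAction.orbitRel P (I n)) i).out with ho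
    have e : a.σ o = x.σ o := congrArg Subtype.val (congrFun hpa _)
    rcases hpat s.1 s.2 o with e' | e'
    · rw [← hs', e']; exact e
    · rw [← hs', e']
      exact InAS.agree (Perm.ext hrinv) (hpat _ (hmemP a ha)) hx.2 e
  have hr' : (⟨rf, rf, hrinv, hrinv⟩ : Perm (I n)) * ⟨rf, rf, hrinv, hrinv⟩ = 1 := Perm.ext hrinv
  have hd := InAS.mul hr' hx (hto a ha)
  obtain ⟨⟨⟨d, hdA⟩, hdk⟩, hd2⟩ := hksurj fun o => (x * a).v o.out
  have hdx : x * a = d := by
    refine W.ext (funext fun i => ?_) ?_
    · obtain ⟨s, hs'⟩ := hrep i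
      set o := (Quotient.mk (MulAction.orbitRel P (I n)) i).out with ho
      rw [← hs', hkinv ⟨⟨d, hdA⟩, hdk⟩ s s.2]
      rcases hpat s.1 s.2 o with e' | e'
      · rw [e']; exact (congrFun hd2 _).symm
      · rw [e']; exact (hd.1 o).trans (congrFun hd2 _).symm
    · rw [show d.σ = 1 from MonoidHom.mem_ker.mp hdk, mul_σ, hσ]
      exact congrArg W.σ (InAS.sq hr' hx)
  have : x = d * a := by rw [← hdx, mul_assoc, hs a ha, mul_one]
  rw [this]
  exact mul_mem hdA ha

/-- If an involution normalising such a subgroup makes the all-one vector a commutator, every element of the subgroup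
commuting with it is a commutator. -/
theorem exists_preimage {r : Perm (I n)} {y a₀ : W n} (hr : r * r = 1) (hy : y * y = 1)
    (hnorm : ∀ a, InAS r a → InAS r (y * a * y)) (ha₀ : InAS r a₀) (hz : a₀ * y * a₀ * y = zW)
    {d : W n} (hd : InAS r d) (hdy : d * y = y * d) : ∃ a, InAS r a ∧ a * y * a * y = d := by
  classical
  set π := y.σ with hπ
  set w := y.v with hw
  have rr := InAS.rr_apply hr
  have hyσ : ∀ i, π (π i) = i := fun i => Perm.ext_iff.mp (congrArg W.σ hy) i
  have hyi : π⁻¹ = π := inv_eq_of_mul_eq_one_right (congrArg W.σ hy)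
  have hwπ : ∀ i, w (π i) = w i := (sq_iff.mp hy).2
  -- the permutation commutes with `r`
  have hfix : ∀ i, r i = i → r (π i) = π i := by
    intro i hi
    have := (hnorm _ (InAS.pp r (σ := r) fun _ => Or.inr rfl)).2 i
    simp only [mul_σ, pp_σ, Perm.mul_apply, hi, or_self] at this
    have h2 := congrArg π this
    rwa [hyσ] at h2
  have hπr : ∀ i, π (r i) = r (π i) := by
    intro i
    by_cases hi : r i = i
    · rw [hi, hfix i hi]
    · have := (hnorm _ (InAS.pp r (σ := r) fun _ => Or.inr rfl)).2 i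
      simp only [mul_σ, pp_σ, Perm.mul_apply] at this
      rcases this with e | e
      · exfalso
        have h2 := congrArg π e
        rw [hyσ] at h2
        have h3 := hfix _ h2
        rw [hyσ] at h3
        exact hi h3
      · rw [← e, hyσ]
  have δv : ∀ {a : W n}, InAS r a → ∀ i,
      (a * y * a * y).v i = a.v i + a.v (π i) + w (a.σ i) + w (a.σ (π (a.σ i))) := by
    intro a ha i
    simp only [mul_v, mul_σ, mul_inv_rev, Perm.mul_apply, InAS.inv_eq hr ha, hyi, ← hπ, ← hw]
    rw [show a.v (π (a.σ i)) = a.v (π i) from by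
      rcases ha.2 i with e | e
      · rw [e]
      · rw [e, hπr, ha.1]]
    ring
  have δσ : ∀ a : W n, ∀ i, (a * y * a * y).σ i = a.σ (π (a.σ (π i))) := fun a i => rfl
  have hz0 : ∀ i, a₀.σ (π (a₀.σ i)) = π i := by
    intro i
    have := δσ a₀ (π i)
    rw [hz, hyσ] at this
    exact this.symm
  have hzv : ∀ i, a₀.v i + a₀.v (π i) + w (a₀.σ i) + w i = 1 := by
    intro i
    have := δv ha₀ i
    rw [hz, hz0, hwπ] at this
    exact this.symm
  have hmov : ∀ i, π i = i → r i ≠ i ∧ w (r i) + w i = 1 := by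
    intro i hi
    have := hzv i
    rw [hi, two_self, zero_add] at this
    rcases ha₀.2 i with e | e
    · rw [e, two_self] at this; exact absurd this zero_ne_one
    · rw [e] at this
      refine ⟨fun e' => ?_, this⟩
      rw [e', two_self] at this
      exact zero_ne_one this
  have hne : ∀ i, π i ≠ i → π i ≠ r i := by
    intro i hi e
    have := hzv i
    rw [e, ha₀.1, two_self, zero_add] at this
    rcases ha₀.2 i with e' | e'
    · rw [e', two_self] at this; exact zero_ne_one this
    · rw [e', ← e, hwπ, two_self] at this; exact zero_ne_one this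
  obtain ⟨hβπ, hdv⟩ := comm_iff.mp hdy
  have hβπ' : ∀ i, d.σ (π i) = π (d.σ i) := fun i => Perm.ext_iff.mp hβπ i
  have hdv' : ∀ i, d.v i + w (d.σ i) = w i + d.v (π i) := by
    intro i
    have := hdv i
    rwa [InAS.inv_eq hr hd, ← hπ, hyi] at this
  have hdfix : ∀ i, π i = i → d.σ i = i := by
    intro i hi
    have := hdv' i
    rw [hi, add_comm (w i)] at this
    have h2 := add_left_cancel this
    rcases hd.2 i with e | e
    · exact e
    · exfalso
      have h3 := (hmov i hi).2
      rw [← e, h2, two_self] at h3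
      exact zero_ne_one h3
  -- a half of the moved points
  let χ : I n → Prop := fun i => min (idx i) (idx (r i)) < min (idx (π i)) (idx (r (π i)))
  have χr : ∀ i, χ (r i) ↔ χ i := by
    intro i
    simp only [χ, rr, hπr]
    rw [min_comm (idx (r i)), min_comm (idx (r (π i)))]
  have χπ : ∀ i, π i ≠ i → (χ (π i) ↔ ¬ χ i) := by
    intro i hi
    have a1 : idx (π i) ≠ idx i := fun e => hi (idx_inj e)
    have a2 : idx (π i) ≠ idx (r i) := fun e => hne i hi (idx_inj e)
    have a3 : idx (r (π i)) ≠ idx i := fun e => hne i hi (by rw [← rr (π i), idx_inj e])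
    have a4 : idx (r (π i)) ≠ idx (r i) := fun e => hi (r.injective (idx_inj e))
    simp only [χ, hyσ]
    omega
  let g : I n → I n := fun i =>
    if π i = i then (if d.v i = 1 then r i else i) else (if χ i then d.σ i else i)
  have hgpat : ∀ i, g i = i ∨ g i = r i := by
    intro i
    simp only [g]
    split_ifs
    exacts [Or.inr rfl, Or.inl rfl, hd.2 i, Or.inl rfl]
  have hgg : ∀ i, g (g i) = i := by
    intro i
    by_cases hi : π i = i
    · by_cases hv : d.v i = 1
      · have e : g i = r i := by simp [g, hi, hv]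
        have hi' : π (r i) = r i := by rw [hπr, hi]
        rw [e]
        simp [g, hi', hd.1, hv, rr]
      · have e : g i = i := by simp [g, hi, hv]
        rw [e, e]
    · by_cases hx : χ i
      · have e : g i = d.σ i := by simp [g, hi, hx]
        have hi' : π (d.σ i) ≠ d.σ i := by
          rw [← hβπ']
          exact fun e' => hi (d.σ.injective e')
        have hx' : χ (d.σ i) := by
          rcases hd.2 i with e' | e'
          · rwa [e']
          · rw [e', χr]; exact hx
        rw [e]
        simp [g, hi', hx', InAS.invol hr hd]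
      · have e : g i = i := by simp [g, hi, hx]
        rw [e, e]
  let a₁ : W n := pp ⟨g, g, hgg, hgg⟩
  have ha₁ : InAS r a₁ := InAS.pp r hgpat
  have hδσ : ∀ i, (a₁ * y * a₁ * y).σ i = d.σ i := by
    intro i
    rw [δσ]
    show g (π (g (π i))) = d.σ i
    by_cases hi : π i = i
    · rw [hi, hdfix i hi]
      have hgi : π (g i) = g i := by
        rcases hgpat i with e | e
        · rw [e, hi]
        · rw [e, hπr, hi]
      rw [hgi, hgg]
    · have hi2 : π (π i) ≠ π i := by rw [hyσ]; exact Ne.symm hi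
      by_cases hx : χ i
      · have e1 : g (π i) = π i := by simp [g, hi2, (χπ i hi), hx]
        rw [e1, hyσ]
        simp [g, hi, hx]
      · have e1 : g (π i) = π (d.σ i) := by simp [g, hi2, (χπ i hi), hx, hβπ']
        rw [e1, hyσ]
        have hi3 : π (d.σ i) ≠ d.σ i := by rw [← hβπ']; exact fun e' => hi (d.σ.injective e')
        have hx3 : ¬ χ (d.σ i) := by
          rcases hd.2 i with e' | e'
          · rwa [e']
          · rw [e', χr]; exact hx
        simp [g, hi3, hx3]
  have hδ1 : InAS r (a₁ * y * a₁ * y) := by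
    rw [show a₁ * y * a₁ * y = a₁ * (y * a₁ * y) by group]
    exact InAS.mul hr ha₁ (hnorm _ ha₁)
  have hδc : (a₁ * y * a₁ * y) * y = y * (a₁ * y * a₁ * y) := by
    have h1 := InAS.comm hr ha₁ (hnorm _ ha₁)
    calc (a₁ * y * a₁ * y) * y = a₁ * y * a₁ * (y * y) := by group
      _ = y * y * a₁ * y * a₁ := by rw [hy]; group
      _ = y * ((y * a₁ * y) * a₁) := by group
      _ = _ := by rw [← h1]; group
  set e := d * (a₁ * y * a₁ * y) with hedef
  have he : InAS r e := InAS.mul hr hd hδ1
  have heσ : e.σ = 1 := Perm.ext fun i => by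
    rw [hedef, mul_σ, Perm.mul_apply, hδσ]
    exact InAS.invol hr hd i
  have hey : e * y = y * e := by
    rw [hedef, mul_assoc, hδc, ← mul_assoc, hdy, mul_assoc]
  have heπ : ∀ i, e.v (π i) = e.v i := by
    have := hey.symm
    rw [eq_ev heσ] at this
    exact comm_ev_iff.mp this
  have hefix : ∀ i, π i = i → e.v i = 0 := by
    intro i hi
    rw [hedef, mul_v, InAS.inv_eq hr hd, hdfix i hi, δv ha₁, hi, two_self, zero_add]
    have hgi : π (g i) = g i := by
      rcases hgpat i with e' | e'
      · rw [e', hi]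
      · rw [e', hπr, hi]
    show d.v i + (w (g i) + w (g (π (g i)))) = 0
    rw [hgi, hgg]
    rcases zmod_cases (d.v i) with e' | e'
    · have : g i = i := by simp [g, hi, e']
      rw [this, e', two_self, add_zero]
    · have : g i = r i := by simp [g, hi, e']
      rw [this, e', (hmov i hi).2]
      rfl
  let v' : I n → ZMod 2 := fun i => if χ i then e.v i else 0
  have hv' : ∀ i, v' (r i) = v' i := by
    intro i
    simp only [v', χr, he.1]
  have ha₂ : InAS r (ev v') := InAS.ev r hv'
  have hδ2 : ev v' * y * ev v' * y = e := by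
    rw [eq_ev heσ]
    refine W.ext (funext fun i => ?_) ?_
    · rw [δv ha₂]
      show v' i + v' (π i) + w i + w (π i) = e.v i
      rw [hwπ, add_assoc, two_self, add_zero]
      by_cases hi : π i = i
      · rw [hi, two_self, hefix i hi]
      · simp only [v', χπ i hi, heπ]
        by_cases hx : χ i <;> simp [hx]
    · exact Perm.ext fun i => (δσ (ev v') i).trans (hyσ i)
  refine ⟨ev v' * a₁, InAS.mul hr ha₂ ha₁, ?_⟩
  have hcm := InAS.comm hr ha₁ (hnorm _ ha₂)
  calc ev v' * a₁ * y * (ev v' * a₁) * y = ev v' * a₁ * (y * ev v' * y) * (y * a₁ * y) := by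
        rw [show ev v' * a₁ * (y * ev v' * y) * (y * a₁ * y) = ev v' * a₁ * y * ev v' * (y * y) * a₁ * y by group,
          hy]
        group
    _ = (ev v' * y * ev v' * y) * (a₁ * y * a₁ * y) := by
        rw [mul_assoc (ev v') a₁, hcm]; group
    _ = e * (a₁ * y * a₁ * y) := by rw [hδ2]
    _ = d := by
        rw [hedef, mul_assoc, InAS.sq hr hδ1, mul_one]

end CfsgLib.AltCentClasses
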