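import Cfsg.Agent.Lib.AltCentClasses.Main

/-!
The centraliser in an alternating group of an involution with two or three fixed places.
-/

set_option autoImplicit false
set_option linter.unusedSimpArgs false
set_option linter.unusedSectionVars false
set_option linter.style.haveILetI false

namespace CfsgLib.AltCentClasses

open Equiv Subgroup

variable {n r : ℕ}

/-- The moved pairs and the fixed places. -/
abbrev X (n r : ℕ) : Type := (I n × Bool) ⊕ Fin r

/-- The permutation of the pairs. -/
def pairPerm (x : W n) : Perm (I n × Bool) where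
  toFun p := (x.σ p.1, xor p.2 (decide (x.v (x.σ p.1) = 1)))
  invFun p := (x.σ⁻¹ p.1, xor p.2 (decide (x.v p.1 = 1)))
  left_inv p := by simp [inv_app]
  right_inv p := by simp [app_inv]

theorem pairPerm_apply (x : W n) (p : I n × Bool) :
    pairPerm x p = (x.σ p.1, xor p.2 (decide (x.v (x.σ p.1) = 1))) := rfl

theorem pairPerm_mul (x y : W n) : pairPerm (x * y) = pairPerm x * pairPerm y := by
  refine Perm.ext fun ⟨i, b⟩ => ?_
  rw [Perm.mul_apply, pairPerm_apply, pairPerm_apply, pairPerm_apply]
  refine Prod.ext rfl ?_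
  show xor b (decide ((x * y).v ((x * y).σ i) = 1)) =
    xor (xor b (decide (y.v (y.σ i) = 1))) (decide (x.v (x.σ (y.σ i)) = 1))
  rw [mul_v, mul_σ, Perm.mul_apply, inv_app]
  generalize x.v (x.σ (y.σ i)) = p, y.v (y.σ i) = q
  revert b p q
  decide

theorem pairPerm_inj {x y : W n} (h : pairPerm x = pairPerm y) : x = y := by
  have h1 : ∀ i, x.σ i = y.σ i ∧ x.v (x.σ i) = y.v (y.σ i) := by
    intro i
    have e := Perm.ext_iff.mp h (i, false)
    rw [pairPerm_apply, pairPerm_apply, Prod.ext_iff] at e
    refine ⟨e.1, ?_⟩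
    have e2 : xor false (decide (x.v (x.σ i) = 1)) = xor false (decide (y.v (y.σ i) = 1)) := e.2
    revert e2
    generalize x.v (x.σ i) = p, y.v (y.σ i) = q
    revert p q
    decide
  have hσ : x.σ = y.σ := Perm.ext fun i => (h1 i).1
  refine W.ext (funext fun i => ?_) hσ
  have := (h1 (x.σ⁻¹ i)).2
  rwa [← hσ, app_inv] at this

/-- The swap of two fixed places by the parity. -/
noncomputable def tailPerm (h : 2 ≤ r) : W n →* Perm (Fin r) where
  toFun x := if parSign x = 1 then 1 else swap ⟨0, by omega⟩ ⟨1, by omega⟩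
  map_one' := by simp
  map_mul' x y := by
    rcases Int.units_eq_one_or (parSign x) with a | a <;> rcases Int.units_eq_one_or (parSign y) with b | b <;>
      simp [map_mul, a, b]

theorem sign_tail (h : 2 ≤ r) (x : W n) : Perm.sign (tailPerm h x) = parSign x := by
  show Perm.sign (if parSign x = 1 then 1 else _) = _
  rcases Int.units_eq_one_or (parSign x) with a | a
  · rw [if_pos a, map_one, a]
  · rw [if_neg (by rw [a]; decide), Perm.sign_swap (by simp [Fin.ext_iff]), a]

theorem sign_pair (x : W n) : Perm.sign (pairPerm x) = parSign x := by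
  classical
  have hs : ∀ σ : Perm (I n), Perm.sign (pairPerm (pp σ)) = 1 := by
    intro σ
    rw [show pairPerm (pp σ) = Equiv.prodCongrLeft fun _ : Bool => σ from Equiv.ext fun ⟨i, b⟩ => by
      simp [pairPerm_apply, pp_v, pp_σ, Equiv.prodCongrLeft]]
    rw [Perm.sign_prodCongrLeft, Fintype.prod_bool, Int.units_mul_self]
  have hp : ∀ σ : Perm (I n), parSign (pp σ) = 1 := fun σ => if_pos (Finset.sum_eq_zero fun i _ => pp_v σ i)
  let f : Multiplicative (ZMod 2) →* ℤˣ :=
    { toFun := fun a => if a.toAdd = 0 then 1 else -1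
      map_one' := if_pos rfl
      map_mul' := by decide }
  have hv : ∀ v : I n → ZMod 2, Perm.sign (pairPerm (ev v)) = parSign (ev v) := by
    intro v
    rw [show pairPerm (ev v) = Equiv.prodCongrRight fun i => if v i = 1 then swap false true else 1 from
      Equiv.ext fun ⟨i, b⟩ => by
        by_cases h : v i = 1 <;> cases b <;> simp [pairPerm_apply, ev_v, ev_σ, Equiv.prodCongrRight, h]]
    rw [Perm.sign_prodCongrRight, show parSign (ev v) = f (Multiplicative.ofAdd (∑ i, v i)) from rfl, ofAdd_sum,
      map_prod]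
    refine Finset.prod_congr rfl fun i _ => ?_
    rcases zmod_cases (v i) with e | e <;> simp [f, e]
  conv_lhs => rw [ev_mul_pp x, pairPerm_mul, map_mul, hv, hs]
  conv_rhs => rw [ev_mul_pp x, map_mul, hp]

/-- The standard involution. -/
def flipX (n r : ℕ) : Perm (X n r) := Perm.sumCongr (pairPerm zW) 1

theorem flip_inl (p : I n × Bool) : flipX n r (Sum.inl p) = Sum.inl (p.1, !p.2) := by
  show Sum.inl (pairPerm zW p) = _
  rw [pairPerm_apply, show (zW : W n).σ = 1 from rfl, zW_v]
  simp

theorem flip_inr (j : Fin r) : flipX n r (Sum.inr j) = Sum.inr j := rfl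

theorem flip_moved (q : X n r) : flipX n r q ≠ q ↔ ∃ p, q = Sum.inl p := by
  rcases q with p | j
  · refine ⟨fun _ => ⟨p, rfl⟩, fun _ e => ?_⟩
    rw [flip_inl] at e
    exact Bool.not_ne_self _ (congrArg Prod.snd (Sum.inl_injective e))
  · simp [flip_inr]

theorem card_flip : (flipX n r).support.card = 4 * n := by
  rw [show (flipX n r).support = (Finset.univ : Finset (I n × Bool)).map ⟨Sum.inl, Sum.inl_injective⟩ from ?_,
    Finset.card_map, Finset.card_univ, Fintype.card_prod, Fintype.card_prod, Fintype.card_fin, Fintype.card_bool]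
  · omega
  ext q
  rw [Perm.mem_support, flip_moved]
  simp [eq_comm]

/-- A permutation commuting with the standard involution gives an element of the wreath product. -/
theorem exists_pair_of_comm {g : Perm (X n r)} (hg : g * flipX n r = flipX n r * g) :
    ∃ x : W n, ∀ p, g (Sum.inl p) = Sum.inl (pairPerm x p) := by
  classical
  have hc : ∀ q, g (flipX n r q) = flipX n r (g q) := fun q => Perm.ext_iff.mp hg q
  have hin : ∀ i, ∃ q : I n × Bool, g (Sum.inl (i, false)) = Sum.inl q := by
    intro i
    refine (flip_moved _).mp fun e => ?_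
    rw [← hc] at e
    exact (flip_moved (n := n) (r := r) _).mpr ⟨_, rfl⟩ (g.injective e)
  choose q hq using hin
  have htrue : ∀ i, g (Sum.inl (i, true)) = Sum.inl ((q i).1, !(q i).2) := by
    intro i
    rw [← flip_inl (n := n) (r := r) (q i), ← hq, ← hc, flip_inl]
    rfl
  have hinj : Function.Injective fun i => (q i).1 := by
    intro i j h
    by_cases hb : (q i).2 = (q j).2
    · have e : g (Sum.inl (i, false)) = g (Sum.inl (j, false)) := by
        rw [hq, hq]; exact congrArg Sum.inl (Prod.ext h hb)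
      exact congrArg Prod.fst (Sum.inl_injective (g.injective e))
    · have e : g (Sum.inl (i, true)) = g (Sum.inl (j, false)) := by
        rw [htrue, hq]
        refine congrArg Sum.inl (Prod.ext h (show (!(q i).2) = (q j).2 from ?_))
        revert hb
        generalize (q i).2 = a, (q j).2 = b
        revert a b
        decide
      exact congrArg Prod.fst (Sum.inl_injective (g.injective e))
  let σ : Perm (I n) := Equiv.ofBijective _ ⟨hinj, Finite.injective_iff_surjective.mp hinj⟩
  refine ⟨⟨fun j => if (q (σ.symm j)).2 then 1 else 0, σ⟩, ?_⟩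
  rintro ⟨i, b⟩
  rw [pairPerm_apply]
  show g (Sum.inl (i, b)) = Sum.inl (σ i, xor b (decide ((if (q (σ.symm (σ i))).2 then (1 : ZMod 2) else 0) = 1)))
  rw [Equiv.symm_apply_apply, show σ i = (q i).1 from rfl]
  cases b
  · rw [hq]; refine congrArg Sum.inl (Prod.ext rfl ?_); cases (q i).2 <;> simp
  · rw [htrue]; refine congrArg Sum.inl (Prod.ext rfl ?_); cases (q i).2 <;> simp

/-- The projection of the centraliser. -/
noncomputable def toW : centralizer ({flipX n r} : Set (Perm (X n r))) →* W n where
  toFun g := (exists_pair_of_comm (mem_centralizer_singleton_iff.mp g.2)).choose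
  map_one' := by
    refine pairPerm_inj (Perm.ext fun p => Sum.inl_injective (α := I n × Bool) (β := Fin r) ?_)
    rw [← (exists_pair_of_comm (mem_centralizer_singleton_iff.mp (1 : centralizer ({flipX n r} : Set _)).2)).choose_spec p]
    simp [pairPerm_apply, one_v, one_σ]
  map_mul' g h := by
    refine pairPerm_inj (Perm.ext fun p => Sum.inl_injective (α := I n × Bool) (β := Fin r) ?_)
    rw [← (exists_pair_of_comm (mem_centralizer_singleton_iff.mp (g * h).2)).choose_spec p, pairPerm_mul,
      Perm.mul_apply, ← (exists_pair_of_comm (mem_centralizer_singleton_iff.mp g.2)).choose_spec,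
      ← (exists_pair_of_comm (mem_centralizer_singleton_iff.mp h.2)).choose_spec]
    rfl

theorem toW_spec (g : centralizer ({flipX n r} : Set (Perm (X n r)))) (p : I n × Bool) :
    (g : Perm (X n r)) (Sum.inl p) = Sum.inl (pairPerm (toW g) p) :=
  (exists_pair_of_comm (mem_centralizer_singleton_iff.mp g.2)).choose_spec p

/-- The model in the permutation group. -/
noncomputable def ofW (h : 2 ≤ r) : W n →* Perm (X n r) where
  toFun x := Perm.sumCongr (pairPerm x) (tailPerm h x)
  map_one' := by
    rw [map_one, show pairPerm (1 : W n) = 1 from Perm.ext fun p => by simp [pairPerm_apply, one_v, one_σ]]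
    exact Perm.sumCongr_one
  map_mul' x y := by rw [pairPerm_mul, map_mul, Perm.sumCongr_mul]

theorem sign_ofW (h : 2 ≤ r) (x : W n) : Perm.sign (ofW h x) = 1 := by
  show Perm.sign (Perm.sumCongr _ _) = 1
  rw [Perm.sign_sumCongr, sign_pair, sign_tail, Int.units_mul_self]

theorem ofW_z (h : 2 ≤ r) : ofW h (zW : W n) = flipX n r := by
  show Perm.sumCongr _ (if parSign (zW : W n) = 1 then 1 else _) = _
  rw [if_pos (show parSign (zW : W n) = 1 from if_pos sum_one)]
  rfl

theorem ofW_mem (h : 2 ≤ r) (x : W n) : ofW h x ∈ centralizer ({flipX n r} : Set (Perm (X n r))) := by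
  rw [mem_centralizer_singleton_iff, ← ofW_z h, ← map_mul, ← map_mul, z_comm]

theorem toW_ofW (h : 2 ≤ r) (x : W n) : toW ⟨ofW h x, ofW_mem h x⟩ = x :=
  pairPerm_inj (Perm.ext fun p => Sum.inl_injective (α := I n × Bool) (β := Fin r)
    ((toW_spec ⟨ofW h x, ofW_mem h x⟩ p).symm.trans rfl))

theorem pow_three (hr : r = 2 ∨ r = 3) (g : centralizer ({flipX n r} : Set (Perm (X n r))))
    (hs : Perm.sign (g : Perm (X n r)) = 1) (hg : toW g = 1) : (g : Perm (X n r)) ^ 3 = 1 := by
  have hl : ∀ p, (g : Perm (X n r)) (Sum.inl p) = Sum.inl p := fun p => by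
    rw [toW_spec g p, hg]
    simp [pairPerm_apply, one_v, one_σ]
  have hm : Set.MapsTo (g : Perm (X n r)) (Set.range Sum.inl) (Set.range Sum.inl) := by
    rintro _ ⟨p, rfl⟩; exact ⟨p, (hl p).symm⟩
  obtain ⟨⟨a, b⟩, hab⟩ := Perm.mem_sumCongrHom_range_of_perm_mapsTo_inl hm
  have ha : a = 1 := Perm.ext fun p => Sum.inl_injective (α := I n × Bool) (β := Fin r) (by
    rw [Perm.one_apply, ← hl p, ← hab]; rfl)
  have hb : Perm.sign b = 1 := by
    have h2 : (g : Perm (X n r)) = Perm.sumCongr 1 b := by rw [← hab, ha]; rfl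
    rwa [h2, Perm.sign_sumCongr, map_one, one_mul] at hs
  have h3 : ∀ b : Perm (Fin r), Perm.sign b = 1 → b ^ 3 = 1 := by
    rcases hr with rfl | rfl <;> decide +kernel
  rw [← hab, ← map_pow, show ((a, b) : Perm (I n × Bool) × Perm (Fin r)) ^ 3 = 1 from
    Prod.ext (by rw [Prod.pow_fst, ha, one_pow]; rfl) (h3 b hb), map_one]

theorem center_W [NeZero n] {x : W n} (h : ∀ y, x * y = y * x) : x = 1 ∨ x = zW := by
  have hσ : x.σ = 1 := Perm.ext fun i => fix_of_comm_eI (h _)
  have hc : ∀ i, x.v i = x.v (0, false) := by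
    intro i
    have := h (pp (swap (0, false) i))
    rw [eq_ev hσ] at this
    have h2 := comm_ev_iff.mp this.symm (0, false)
    rwa [pp_σ, swap_apply_left] at h2
  rw [eq_ev hσ]
  rcases zmod_cases (x.v (0, false)) with e | e
  · left; rw [show x.v = 0 from funext fun i => (hc i).trans e]; exact ev_zero
  · right; exact congrArg ev (funext fun i => (hc i).trans e)

/-- The setting from an isomorphism of centralisers. -/
theorem exists_ctx (hn : 1 ≤ n) (hr : r = 2 ∨ r = 3) (α : alternatingGroup (Fin (4 * n + r))) (hα : orderOf α = 2)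
    (hα4 : (α : Perm (Fin (4 * n + r))).support.card = 4 * n) {G : Type*} [Group G] [Finite G]
    (h2 : ∀ H : Subgroup G, H.Normal → H.index ≠ 2) (t : G) (ht : orderOf t = 2) (S : Sylow 2 G)
    (htZ : ∀ s ∈ (S : Subgroup G), s * t = t * s)
    (φ : centralizer ({t} : Set G) ≃* centralizer ({α} : Set (alternatingGroup (Fin (4 * n + r))))) :
    Nonempty (Ctx G n) := by
  classical
  haveI : NeZero n := ⟨by omega⟩
  have h2r : 2 ≤ r := by omega
  let e₀ : Fin (4 * n + r) ≃ X n r := Fintype.equivOfCardEq (by
    simp only [Fintype.card_fin, Fintype.card_sum, Fintype.card_prod, Fintype.card_bool]; omega)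
  set σ := e₀.permCongr (α : Perm (Fin (4 * n + r))) with hσ
  have hαα : (α : Perm (Fin (4 * n + r))) * α = 1 := by
    rw [← Subgroup.coe_mul, ← pow_two, ← hα, pow_orderOf_eq_one, Subgroup.coe_one]
  have hσσ : σ * σ = 1 := Perm.ext fun q => by
    have := Perm.ext_iff.mp hαα (e₀.symm q)
    simp only [Perm.mul_apply, Perm.one_apply] at this
    simp [hσ, this]
  have hflip : flipX n r * flipX n r = 1 := by
    rw [← ofW_z h2r, ← map_mul, z_sq, map_one]
  have hcard : σ.support.card = (flipX n r).support.card := by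
    rw [card_flip, ← hα4]
    refine (Finset.card_equiv e₀ fun i => ?_).symm
    simp [hσ, Perm.mem_support]
  obtain ⟨c, hc⟩ := isConj_iff.mp (isConj_of_moved hσσ hflip hcard)
  let Ψ : Perm (Fin (4 * n + r)) ≃* Perm (X n r) := e₀.permCongrHom.trans (MulAut.conj c)
  have hΨα : Ψ α = flipX n r := hc
  have hΨs : ∀ g, Perm.sign (Ψ g) = Perm.sign g := fun g => by
    show Perm.sign (c * e₀.permCongr g * c⁻¹) = _
    rw [map_mul, map_mul, map_inv, mul_right_comm, mul_inv_cancel, one_mul, Perm.sign_permCongr]
  -- the projection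
  let ψ : centralizer ({t} : Set G) →* centralizer ({flipX n r} : Set (Perm (X n r))) :=
    (Ψ.toMonoidHom.comp ((alternatingGroup (Fin (4 * n + r))).subtype.comp
      ((centralizer ({α} : Set (alternatingGroup (Fin (4 * n + r))))).subtype.comp φ.toMonoidHom))).codRestrict _
      fun g => by
        rw [mem_centralizer_singleton_iff, ← hΨα]
        show Ψ _ * Ψ _ = Ψ _ * Ψ _
        rw [← map_mul, ← map_mul]
        exact congrArg Ψ (congrArg Subtype.val (mem_centralizer_singleton_iff.mp (φ g).2))
  -- the section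
  have hsgn : ∀ x : W n, Ψ.symm (ofW h2r x) ∈ alternatingGroup (Fin (4 * n + r)) := fun x => by
    rw [Perm.mem_alternatingGroup, ← hΨs, Ψ.apply_symm_apply, sign_ofW]
  have hcen : ∀ x : W n, (⟨_, hsgn x⟩ : alternatingGroup (Fin (4 * n + r))) ∈
      centralizer ({α} : Set (alternatingGroup (Fin (4 * n + r)))) := fun x => by
    rw [mem_centralizer_singleton_iff]
    refine Subtype.ext (Ψ.injective ?_)
    show Ψ (Ψ.symm (ofW h2r x) * α) = Ψ (α * Ψ.symm (ofW h2r x))
    rw [map_mul, map_mul, Ψ.apply_symm_apply, hΨα]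
    exact mem_centralizer_singleton_iff.mp (ofW_mem h2r x)
  let ι₀ : W n →* centralizer ({α} : Set (alternatingGroup (Fin (4 * n + r)))) :=
    { toFun := fun x => ⟨⟨_, hsgn x⟩, hcen x⟩
      map_one' := Subtype.ext (Subtype.ext (by simp))
      map_mul' := fun x y => Subtype.ext (Subtype.ext (by simp)) }
  let η : centralizer ({t} : Set G) →* W n := toW.comp ψ
  let ι' : W n →* centralizer ({t} : Set G) := φ.symm.toMonoidHom.comp ι₀
  have hsect : ∀ x, η (ι' x) = x := fun x => by
    refine (congrArg toW (Subtype.ext ?_)).trans (toW_ofW h2r x)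
    show Ψ ((φ (φ.symm (ι₀ x))).1.1) = ofW h2r x
    rw [φ.apply_symm_apply]
    exact Ψ.apply_symm_apply _
  have hker : ∀ g, η g = 1 → Odd (orderOf (g : G)) := by
    intro g hg
    have h1 : ((ψ g : centralizer ({flipX n r} : Set (Perm (X n r)))) : Perm (X n r)) ^ 3 = 1 :=
      pow_three hr (ψ g) (by
        show Perm.sign (Ψ ((φ g).1.1)) = 1
        rw [hΨs]
        exact (φ g).1.2) hg
    have h3 : φ g ^ 3 = 1 := by
      refine Subtype.ext (Subtype.ext (Ψ.injective ?_))
      simp only [Subgroup.coe_pow, Subgroup.coe_one, map_pow, map_one]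
      exact h1
    have h4 : (g : G) ^ 3 = 1 := congrArg Subtype.val (φ.injective (by rw [map_pow, h3, map_one]) : g ^ 3 = 1)
    rcases (Nat.dvd_prime Nat.prime_three).mp (orderOf_dvd_of_pow_eq_one h4) with e | e <;> rw [e] <;> decide
  have htt : t * t = 1 := by rw [← pow_two, ← ht, pow_orderOf_eq_one]
  have hz : (ι' zW : G) = t := by
    let τ : centralizer ({t} : Set G) := ⟨t, mem_centralizer_singleton_iff.mpr rfl⟩
    have hτc : ∀ g, τ * g = g * τ := fun g => Subtype.ext (mem_centralizer_singleton_iff.mp g.2).symm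
    have hη : η τ = zW := by
      refine (center_W fun y => ?_).resolve_left fun e => ?_
      · rw [← hsect y, ← map_mul, ← map_mul, hτc]
      · have := hker τ e
        rw [show ((τ : centralizer ({t} : Set G)) : G) = t from rfl, ht] at this
        exact absurd this (by decide)
    have h1 : η (ι' zW * τ) = 1 := by rw [map_mul, hsect, hη, z_sq]
    have h2 := hker _ h1
    have h3 : (ι' zW : G) * t * ((ι' zW : G) * t) = 1 := by
      have hc : (ι' zW : G) * t = t * (ι' zW : G) := mem_centralizer_singleton_iff.mp (ι' zW).2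
      rw [show (ι' zW : G) * t * ((ι' zW : G) * t) = (ι' zW : G) * (t * (ι' zW : G)) * t by group, ← hc,
        show (ι' zW : G) * ((ι' zW : G) * t) * t = (ι' zW : G) * (ι' zW : G) * (t * t) by group, htt,
        ← Subgroup.coe_mul, ← map_mul, z_sq, map_one, Subgroup.coe_one, one_mul]
    rcases (Nat.dvd_prime Nat.prime_two).mp (orderOf_dvd_of_pow_eq_one (x := (ι' zW : G) * t) (n := 2) (by rw [pow_two]; exact h3)) with e | e
    · exact (eq_inv_of_mul_eq_one_left (orderOf_eq_one_iff.mp e)).trans (inv_eq_of_mul_eq_one_right htt)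
    · rw [Subgroup.coe_mul, show ((τ : centralizer ({t} : Set G)) : G) = t from rfl, e] at h2
      exact absurd h2 (by decide)
  exact ⟨{
    t := t
    ι := (centralizer ({t} : Set G)).subtype.comp ι'
    η := η
    ι_inj := fun x y h => by
      have : ι' x = ι' y := Subtype.ext h
      rw [← hsect x, this, hsect]
    ι_mem := fun x => (ι' x).2
    sect := hsect
    odd := hker
    ι_z := hz
    noTwo := h2
    syl := ⟨S, htZ⟩ }⟩

end CfsgLib.AltCentClasses
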