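import Cfsg.Agent.Lib.AltCentClasses.Iso
import Cfsg.Agent.Lib.TransferExtremal

/-!
A group in which the centraliser of a 2-central involution is the wreath product up to odd order.
-/

set_option autoImplicit false
set_option linter.unusedSimpArgs false
set_option linter.style.haveILetI false

namespace CfsgLib.AltCentClasses

open Equiv Subgroup

variable {n : ℕ} {G : Type*} [Group G] [Finite G]

/-- The setting. -/
structure Ctx (G : Type*) [Group G] (n : ℕ) where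
  t : G
  ι : W n →* G
  η : centralizer ({t} : Set G) →* W n
  ι_inj : Function.Injective ι
  ι_mem : ∀ x, ι x ∈ centralizer ({t} : Set G)
  sect : ∀ x, η ⟨ι x, ι_mem x⟩ = x
  odd : ∀ c, η c = 1 → Odd (orderOf (c : G))
  ι_z : ι zW = t
  noTwo : ∀ H : Subgroup G, H.Normal → H.index ≠ 2
  syl : ∃ S : Sylow 2 G, ∀ s ∈ (S : Subgroup G), s * t = t * s

theorem z_mem_sylow (S : Sylow 2 (W n)) : zW ∈ (S : Subgroup (W n)) := by
  haveI : (zpowers (zW : W n)).Normal := ⟨fun x hx g => by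
    obtain ⟨k, rfl⟩ := hx
    have h : Commute g (zW : W n) := z_comm g
    rw [(h.zpow_right k).eq, mul_inv_cancel_right]
    exact ⟨k, rfl⟩⟩
  have hp : IsPGroup 2 (zpowers (zW : W n)) := by
    rintro ⟨x, k, rfl⟩
    refine ⟨1, Subtype.ext ?_⟩
    show ((zW : W n) ^ k) ^ (2 ^ 1) = 1
    rw [pow_one, ← zpow_natCast, ← zpow_mul, mul_comm, zpow_mul, zpow_natCast, pow_two, z_sq, one_zpow]
  obtain ⟨R, hR⟩ := hp.exists_le_sylow
  obtain ⟨g, hg⟩ := MulAction.exists_smul_eq (W n) R S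
  have h := hR (mem_zpowers _)
  rw [← hg, Sylow.coe_subgroup_smul, Subgroup.pointwise_smul_def]
  exact ⟨zW, h, by
    show g * zW * g⁻¹ = zW
    rw [z_comm, mul_inv_cancel_right]⟩

/-- A group of prime power order properly inside a bigger one does not fill its normaliser there. -/
theorem exists_grow {P R : Subgroup G} (hR : IsPGroup 2 R) (hle : P ≤ R) (hne : P ≠ R) :
    ∃ h ∈ R, h ∉ P ∧ ∀ a, a ∈ P ↔ h * a * h⁻¹ ∈ P := by
  haveI : Fact (Nat.Prime 2) := ⟨Nat.prime_two⟩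
  haveI := hR.isNilpotent
  have hlt : P.subgroupOf R < ⊤ := lt_top_iff_ne_top.mpr fun e => hne (le_antisymm hle (subgroupOf_eq_top.mp e))
  obtain ⟨⟨h, hh⟩, hn, hnP⟩ := SetLike.exists_of_lt (Group.normalizerCondition_of_isNilpotent _ hlt)
  refine ⟨h, hh, hnP, fun a => ?_⟩
  constructor
  · intro ha
    exact (mem_normalizer_iff.mp hn ⟨a, hle ha⟩).mp ha
  · intro ha
    have hm : a ∈ R := by
      have := R.mul_mem (R.mul_mem (R.inv_mem hh) (hle ha)) hh
      simpa [mul_assoc] using this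
    exact (mem_normalizer_iff.mp hn ⟨a, hm⟩).mpr ha

namespace Ctx

variable (K : Ctx G n)

/-- The centraliser of the involution. -/
abbrev C : Subgroup G := centralizer ({K.t} : Set G)

theorem mem_C {g : G} : g ∈ K.C ↔ g * K.t = K.t * g := mem_centralizer_singleton_iff

/-- Fusion of elements of the wreath product. -/
def Cj (x y : W n) : Prop := IsConj (K.ι x) (K.ι y)

theorem eq_of_η {a b : K.C} (h : K.η a = K.η b) : Odd (orderOf (((a * b⁻¹ : K.C)) : G)) :=
  K.odd _ (by rw [map_mul, map_inv, h, mul_inv_cancel])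

theorem sect' {c : K.C} {x : W n} (h : (c : G) = K.ι x) : K.η c = x := by
  rw [show c = ⟨K.ι x, K.ι_mem x⟩ from Subtype.ext h, K.sect]

/-- An involution of the centraliser is conjugate there to the one with the same image. -/
theorem invol_conj (c : K.C) (hc : c * c = 1) : ∃ d ∈ K.C, d * (c : G) * d⁻¹ = K.ι (K.η c) := by
  set x : K.C := ⟨K.ι (K.η c), K.ι_mem _⟩ with hx
  have hxx : x * x = 1 := Subtype.ext (by
    show K.ι _ * K.ι _ = 1
    rw [← map_mul, ← map_mul K.η, hc, map_one, map_one])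
  obtain ⟨j, hj⟩ := K.eq_of_η (a := x) (b := c) (K.sect _)
  rw [inv_eq_of_mul_eq_one_right hc] at hj
  set k := x * c with hk
  have hkj : k ^ (2 * j + 1) = 1 := Subtype.ext (by
    show (k : G) ^ (2 * j + 1) = 1
    rw [← hj]; exact pow_orderOf_eq_one _)
  have hck : c * k * c⁻¹ = k⁻¹ := by
    rw [hk, mul_inv_rev, inv_eq_of_mul_eq_one_right hc, inv_eq_of_mul_eq_one_right hxx,
      mul_assoc c, mul_assoc x c c, hc, mul_one]
  refine ⟨((k ^ (j + 1) : K.C) : G), (k ^ (j + 1)).2, ?_⟩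
  have : k ^ (j + 1) * c * (k ^ (j + 1))⁻¹ = x := by
    have h1 : c * (k ^ (j + 1))⁻¹ = k ^ (j + 1) * c := by
      rw [← inv_pow, ← hck, conj_pow, ← mul_assoc, ← mul_assoc, hc, one_mul, inv_eq_of_mul_eq_one_right hc]
    rw [mul_assoc, h1, ← mul_assoc, ← pow_add, show j + 1 + (j + 1) = 2 * j + 1 + 1 by omega, pow_succ, hkj,
      one_mul, hk, mul_assoc, hc, mul_one]
  exact congrArg Subtype.val this

theorem exists_lift {Q : Subgroup G} (hQ : IsPGroup 2 Q) (hle : Q ≤ K.C) :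
    ∃ f : Q →* W n, Function.Injective f ∧ IsPGroup 2 f.range ∧ ∀ q : Q, f q = K.η ⟨q, hle q.2⟩ := by
  refine ⟨K.η.comp (Subgroup.inclusion hle), (injective_iff_map_eq_one _).mpr fun q hq => ?_, fun y => ?_,
    fun q => rfl⟩
  · obtain ⟨k, hk⟩ := hQ q
    have h1 : Odd (orderOf (q : G)) := K.odd _ hq
    have h2 : orderOf (q : G) ∣ 2 ^ k := orderOf_dvd_of_pow_eq_one (congrArg Subtype.val hk)
    obtain ⟨i, -, hi⟩ := (Nat.dvd_prime_pow Nat.prime_two).mp h2
    rcases Nat.eq_zero_or_pos i with rfl | hpos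
    · exact Subtype.ext (orderOf_eq_one_iff.mp (by rw [hi, pow_zero]))
    · rw [hi] at h1
      exact absurd (even_two.pow_of_ne_zero (by omega)) (Nat.not_even_iff_odd.mpr h1)
  · obtain ⟨q, hq⟩ := y.2
    obtain ⟨k, hk⟩ := hQ q
    exact ⟨k, Subtype.ext (by rw [Subgroup.coe_pow, ← hq, ← map_pow, hk, map_one, Subgroup.coe_one])⟩

theorem card_le_sylow (S : Sylow 2 (W n)) {Q : Subgroup G} (hQ : IsPGroup 2 Q) (hle : Q ≤ K.C) :
    Nat.card Q ≤ Nat.card S := by
  haveI : Fact (Nat.Prime 2) := ⟨Nat.prime_two⟩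
  obtain ⟨f, hinj, hp, -⟩ := K.exists_lift hQ hle
  rw [Nat.card_congr (MonoidHom.ofInjective hinj).toEquiv]
  obtain ⟨R, hR⟩ := hp.exists_le_sylow
  exact (card_le_of_le hR).trans (Sylow.card_eq_multiplicity R ▸ Sylow.card_eq_multiplicity S ▸ le_rfl)

theorem isPGroup_map {S : Subgroup (W n)} (h : IsPGroup 2 S) : IsPGroup 2 (S.map K.ι) := h.map K.ι

include K in
theorem sylow_card (S : Sylow 2 (W n)) (T : Sylow 2 G) : Nat.card T = Nat.card S := by
  haveI : Fact (Nat.Prime 2) := ⟨Nat.prime_two⟩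
  obtain ⟨S₀, hS₀⟩ := K.syl
  have h1 : Nat.card S₀ ≤ Nat.card S := K.card_le_sylow S S₀.2 fun s hs => K.mem_C.mpr (hS₀ s hs)
  obtain ⟨R, hR⟩ := (K.isPGroup_map S.2).exists_le_sylow
  have h2 := card_le_of_le hR
  rw [Subgroup.card_map_of_injective K.ι_inj] at h2
  have h3 : Nat.card R = Nat.card T := by rw [R.card_eq_multiplicity, T.card_eq_multiplicity]
  have h4 : Nat.card S₀ = Nat.card T := by rw [S₀.card_eq_multiplicity, T.card_eq_multiplicity]
  change Nat.card S ≤ Nat.card R at h2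
  omega

/-- The image of a Sylow subgroup is a Sylow subgroup. -/
theorem sylow_map (S : Sylow 2 (W n)) : ∃ T : Sylow 2 G, (T : Subgroup G) = (S : Subgroup (W n)).map K.ι := by
  obtain ⟨R, hR⟩ := (K.isPGroup_map S.2).exists_le_sylow
  refine ⟨R, (eq_of_le_of_card_ge hR ?_).symm⟩
  rw [Subgroup.card_map_of_injective K.ι_inj]
  exact (K.sylow_card S R).le

theorem centralizer_inf_map (S : Subgroup (W n)) (a : W n) :
    centralizer ({K.ι a} : Set G) ⊓ S.map K.ι = (Cn a ⊓ S).map K.ι := by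
  ext g
  constructor
  · rintro ⟨h1, x, hx, rfl⟩
    refine ⟨x, ⟨mem_Cn.mpr (K.ι_inj ?_), hx⟩, rfl⟩
    rw [map_mul, map_mul]
    exact mem_centralizer_singleton_iff.mp h1
  · rintro ⟨x, ⟨h1, h2⟩, rfl⟩
    exact ⟨mem_centralizer_singleton_iff.mpr (by rw [← map_mul, ← map_mul, mem_Cn.mp h1]), x, h2, rfl⟩

/-- A subgroup of the centraliser commuting with an element of the wreath product. -/
theorem card_le_cent {u : W n} (S : Sylow 2 (W n))
    (hmax : ∀ Q : Subgroup (W n), IsPGroup 2 Q → Q ≤ Cn u → Nat.card Q ≤ Nat.card (Cn u ⊓ S : Subgroup (W n)))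
    {x : W n} (hxu : Cn x ≤ Cn u) {Q : Subgroup G} (hQ : IsPGroup 2 Q) (hle : Q ≤ K.C)
    (hc : ∀ q ∈ Q, q * K.ι x = K.ι x * q) : Nat.card Q ≤ Nat.card (Cn u ⊓ S : Subgroup (W n)) := by
  obtain ⟨f, hinj, hp, hf⟩ := K.exists_lift hQ hle
  rw [Nat.card_congr (MonoidHom.ofInjective hinj).toEquiv]
  refine hmax _ hp ?_
  rintro _ ⟨q, rfl⟩
  refine hxu (mem_Cn.mpr ?_)
  have h : (⟨q, hle q.2⟩ : K.C) * ⟨K.ι x, K.ι_mem x⟩ = ⟨K.ι x, K.ι_mem x⟩ * ⟨q, hle q.2⟩ :=
    Subtype.ext (hc q q.2)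
  have := congrArg K.η h
  rw [map_mul, map_mul, K.sect] at this
  rwa [hf q]

/-- An element growing a part of a centraliser moves the central involution. -/
theorem grow_moves {u : W n} (S : Sylow 2 (W n))
    (hmax : ∀ Q : Subgroup (W n), IsPGroup 2 Q → Q ≤ Cn u → Nat.card Q ≤ Nat.card (Cn u ⊓ S : Subgroup (W n)))
    {x : W n} (hxu : Cn x ≤ Cn u) {R : Subgroup G} (hR : IsPGroup 2 R) (hRc : R ≤ centralizer ({K.ι x} : Set G))
    (hle : (Cn u ⊓ S : Subgroup (W n)).map K.ι ≤ R) {h : G} (hh : h ∈ R)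
    (hnot : h ∉ (Cn u ⊓ S : Subgroup (W n)).map K.ι) : h * K.t * h⁻¹ ≠ K.t := by
  intro e
  set P := (Cn u ⊓ S : Subgroup (W n)).map K.ι with hP
  set Q := R ⊓ K.C with hQ
  have hhQ : h ∈ Q := ⟨hh, K.mem_C.mpr (mul_inv_eq_iff_eq_mul.mp e)⟩
  have hPQ : P ≤ Q := le_inf hle fun g ⟨a, _, ha⟩ => ha ▸ K.ι_mem a
  have hcard : Nat.card Q ≤ Nat.card P := by
    rw [hP, Subgroup.card_map_of_injective K.ι_inj]
    exact K.card_le_cent S hmax hxu (hR.to_le inf_le_left) inf_le_right fun q hq =>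
      mem_centralizer_singleton_iff.mp (hRc hq.1)
  exact hnot ((eq_of_le_of_card_ge hPQ hcard).symm ▸ hhQ)

/-- Thompson transfer: a central element of a part of a centraliser fused to the central involution. -/
theorem exists_central_conj {u : W n} (hu : u * u = 1) (S : Sylow 2 (W n)) (huS : u ∈ (S : Subgroup (W n)))
    (hmax : ∀ Q : Subgroup (W n), IsPGroup 2 Q → Q ≤ Cn u → Nat.card Q ≤ Nat.card (Cn u ⊓ S : Subgroup (W n)))
    (ξ : W n →* ℤˣ) (hξ : ξ u = -1) :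
    ∃ x ∈ (Cn u ⊓ S : Subgroup (W n)), x ≠ zW ∧ IsConj K.t (K.ι x) ∧
      ∀ a ∈ (Cn u ⊓ S : Subgroup (W n)), x * a = a * x := by
  haveI : Fact (Nat.Prime 2) := ⟨Nat.prime_two⟩
  obtain ⟨T, hT⟩ := K.sylow_map S
  set SS : Subgroup (W n) := (S : Subgroup (W n)) with hSS
  set P := (Cn u ⊓ SS).map K.ι with hP
  have hzS : (zW : W n) ∈ SS := z_mem_sylow S
  have hrel : ((SS ⊓ ξ.ker).map K.ι).relIndex T = 2 := by
    rw [hT, relIndex_map_map_of_injective _ _ K.ι_inj, inf_relIndex_left, relIndex]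
    rw [show ξ.ker.subgroupOf SS = (ξ.comp SS.subtype).ker from rfl, index_ker]
    have htop : (ξ.comp SS.subtype).range = ⊤ := by
      rw [eq_top_iff]
      intro w _
      rcases Int.units_eq_one_or w with rfl | rfl
      exacts [one_mem _, ⟨⟨u, huS⟩, hξ⟩]
    rw [htop, Subgroup.card_top, Nat.card_eq_fintype_card, Fintype.card_units_int]
  obtain ⟨g, ⟨y, hy, hgy⟩, hcard⟩ := TransferExtremal.exists_conj K.noTwo T _
    (by rw [hT]; exact map_mono inf_le_left) hrel (K.ι u) (by rw [pow_two, ← map_mul, hu, map_one])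
  rw [hT, K.centralizer_inf_map, ← hgy, K.centralizer_inf_map] at hcard
  have hPu : P ≤ centralizer ({K.ι u} : Set G) := fun a ⟨b, hb, hab⟩ => hab ▸ mem_centralizer_singleton_iff.mpr
    (by rw [← map_mul, ← map_mul, mem_Cn.mp hb.1])
  have hP2 : IsPGroup 2 P := K.isPGroup_map (S.2.to_le inf_le_right)
  have hPC : P ≤ K.C := fun g ⟨a, _, ha⟩ => ha ▸ K.ι_mem a
  have htP : K.t ∈ P := ⟨zW, ⟨z_mem u, hzS⟩, K.ι_z⟩
  by_cases hmaxP : ∃ R : Subgroup G, IsPGroup 2 R ∧ R ≤ centralizer ({K.ι u} : Set G) ∧ P ≤ R ∧ P ≠ R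
  · obtain ⟨R, hR, hRc, hle, hne⟩ := hmaxP
    obtain ⟨h, hh, hhP, hnorm⟩ := exists_grow hR hle hne
    have hmove := K.grow_moves S hmax le_rfl hR hRc hle hh hhP
    obtain ⟨x, hx, hxe⟩ := (hnorm K.t).mp htP
    refine ⟨x, hx, fun e => hmove (by rw [← hxe, e, K.ι_z]), isConj_iff.mpr ⟨h, hxe.symm⟩, fun a ha => K.ι_inj ?_⟩
    rw [map_mul, map_mul, hxe]
    have ha' : h⁻¹ * K.ι a * h ∈ P := (hnorm _).mpr (by
      rw [show h * (h⁻¹ * K.ι a * h) * h⁻¹ = K.ι a by group]; exact ⟨a, ha, rfl⟩)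
    have hc := K.mem_C.mp (hPC ha')
    calc h * K.t * h⁻¹ * K.ι a = h * (K.t * (h⁻¹ * K.ι a * h)) * h⁻¹ := by group
      _ = _ := by rw [← hc]; group
  · push Not at hmaxP
    obtain ⟨hyS, hξy⟩ := hy
    set C' := centralizer ({K.ι y} : Set G) with hC'
    have hconj : P.map (MulAut.conj g).toMonoidHom ≤ C' := by
      rintro _ ⟨a, ha, rfl⟩
      refine mem_centralizer_singleton_iff.mpr ?_
      show g * a * g⁻¹ * K.ι y = K.ι y * (g * a * g⁻¹)
      rw [hgy]
      have := mem_centralizer_singleton_iff.mp (hPu ha)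
      calc g * a * g⁻¹ * (g * K.ι u * g⁻¹) = g * (a * K.ι u) * g⁻¹ := by group
        _ = _ := by rw [this]; group
    have hmax' : ∀ R : Subgroup G, IsPGroup 2 R → R ≤ C' → P.map (MulAut.conj g).toMonoidHom ≤ R →
        P.map (MulAut.conj g).toMonoidHom = R := by
      intro R hR hRc hle
      have h1 := hmaxP (R.map (MulAut.conj g⁻¹).toMonoidHom) (hR.map _) (by
        rintro _ ⟨a, ha, rfl⟩
        refine mem_centralizer_singleton_iff.mpr ?_
        show g⁻¹ * a * g⁻¹⁻¹ * K.ι u = K.ι u * (g⁻¹ * a * g⁻¹⁻¹)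
        have := mem_centralizer_singleton_iff.mp (hRc ha)
        rw [hgy] at this
        calc g⁻¹ * a * g⁻¹⁻¹ * K.ι u = g⁻¹ * (a * (g * K.ι u * g⁻¹)) * g := by group
          _ = _ := by rw [this]; group) (fun a ha => ⟨g * a * g⁻¹, hle ⟨a, ha, rfl⟩, by simp [mul_assoc]⟩)
      rw [h1, Subgroup.map_map]
      ext a
      simp [mul_assoc]
    -- both are Sylow subgroups of the centraliser
    obtain ⟨R₁, hR₁⟩ := (show IsPGroup 2 ((P.map (MulAut.conj g).toMonoidHom).subgroupOf C') from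
      (hP2.map _).comap_subtype).exists_le_sylow
    have e₁ : P.map (MulAut.conj g).toMonoidHom = (R₁ : Subgroup C').map C'.subtype :=
      hmax' _ (R₁.2.map _) (map_subtype_le _) fun a ha => ⟨⟨a, hconj ha⟩, hR₁ ha, rfl⟩
    set P' := (Cn y ⊓ SS).map K.ι with hP'
    have hP'C : P' ≤ C' := fun a ⟨b, hb, hab⟩ => hab ▸ mem_centralizer_singleton_iff.mpr
      (by rw [← map_mul, ← map_mul, mem_Cn.mp hb.1])
    have hP'2 : IsPGroup 2 P' := K.isPGroup_map (S.2.to_le inf_le_right)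
    obtain ⟨R₂, hR₂⟩ := (show IsPGroup 2 (P'.subgroupOf C') from hP'2.comap_subtype).exists_le_sylow
    have e₂ : P'.subgroupOf C' = R₂ := by
      refine eq_of_le_of_card_ge hR₂ ?_
      rw [Nat.card_congr (subgroupOfEquivOfLe hP'C).toEquiv]
      refine le_of_eq_of_le ?_ hcard
      rw [R₂.card_eq_multiplicity, ← R₁.card_eq_multiplicity,
        ← Subgroup.card_map_of_injective (f := C'.subtype) C'.subtype_injective, ← e₁,
        Subgroup.card_map_of_injective (MulEquiv.injective _)]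
    obtain ⟨c, hc⟩ := MulAction.exists_smul_eq C' R₁ R₂
    set g' := (c : G) * g with hg'
    have hPP' : ∀ b ∈ P', g'⁻¹ * b * g' ∈ P := by
      intro b hb
      have hm : (⟨b, hP'C hb⟩ : C') ∈ (R₂ : Subgroup C') := e₂ ▸ hb
      rw [← hc, Sylow.coe_subgroup_smul, Subgroup.pointwise_smul_def] at hm
      obtain ⟨r, hr, hrb⟩ := hm
      have hr' : (r : G) ∈ P.map (MulAut.conj g).toMonoidHom := e₁ ▸ ⟨r, hr, rfl⟩
      obtain ⟨p, hp, hpr⟩ := hr'
      have hb' : (c : G) * r * (c : G)⁻¹ = b := congrArg Subtype.val hrb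
      rw [← hb', ← hpr, hg']
      simpa [mul_assoc] using hp
    obtain ⟨x, hx, hxe⟩ := hPP' K.t ⟨zW, ⟨z_mem y, hzS⟩, K.ι_z⟩
    refine ⟨x, hx, fun e => ?_, isConj_iff.mpr ⟨g'⁻¹, by rw [hxe, inv_inv]⟩, fun a ha => K.ι_inj ?_⟩
    · rw [e, K.ι_z] at hxe
      have hgC : g' ∈ K.C := K.mem_C.mpr (by
        conv_lhs => rw [hxe]
        group)
      have hgu : g' * K.ι u * g'⁻¹ = K.ι y := by
        rw [hg', show (c : G) * g * K.ι u * ((c : G) * g)⁻¹ = (c : G) * (g * K.ι u * g⁻¹) * (c : G)⁻¹ by group,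
          ← hgy, mem_centralizer_singleton_iff.mp c.2, mul_inv_cancel_right]
      have := congrArg K.η
        (Subtype.ext hgu : (⟨g', hgC⟩ : K.C) * ⟨K.ι u, K.ι_mem u⟩ * ⟨g', hgC⟩⁻¹ = ⟨K.ι y, K.ι_mem y⟩)
      rw [map_mul, map_mul, map_inv, K.sect, K.sect] at this
      have := congrArg ξ this
      rw [map_mul, map_mul, map_inv, mul_right_comm, mul_inv_cancel, one_mul, hξ, show ξ y = 1 from hξy] at this
      exact absurd this (by decide)
    · have hinj : Function.Injective fun b : P' => (⟨g'⁻¹ * b * g', hPP' b b.2⟩ : P) := fun b b' e => by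
        have := congrArg Subtype.val e
        exact Subtype.ext (mul_left_cancel (mul_right_cancel this))
      haveI : Finite P := inferInstance
      have hsurj := (hinj.bijective_of_nat_card_le hcard).2
      obtain ⟨⟨b, hb⟩, hba⟩ := hsurj ⟨K.ι a, ⟨a, ha, rfl⟩⟩
      have hba' : g'⁻¹ * b * g' = K.ι a := congrArg Subtype.val hba
      have hbC : b * K.t = K.t * b := by
        obtain ⟨b', -, rfl⟩ := hb
        exact K.mem_C.mp (K.ι_mem b')
      rw [map_mul, map_mul, hxe, ← hba']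
      calc g'⁻¹ * K.t * g' * (g'⁻¹ * b * g') = g'⁻¹ * (K.t * b) * g' := by group
        _ = _ := by rw [← hbC]; group

/-- An element normalising a part of a centraliser and moving the central involution. -/
theorem exists_mover {u x : W n} (S : Sylow 2 (W n)) (hS : ¬ (S : Subgroup (W n)) ≤ Cn u)
    (hmax : ∀ Q : Subgroup (W n), IsPGroup 2 Q → Q ≤ Cn u → Nat.card Q ≤ Nat.card (Cn u ⊓ S : Subgroup (W n)))
    (hxc : ∀ a ∈ (Cn u ⊓ S : Subgroup (W n)), x * a = a * x)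
    (hxu : Cn x ≤ Cn u) (hxt : IsConj K.t (K.ι x)) :
    ∃ h : G, h * K.t * h⁻¹ ≠ K.t ∧
      ∀ g, g ∈ (Cn u ⊓ S : Subgroup (W n)).map K.ι ↔ h * g * h⁻¹ ∈ (Cn u ⊓ S : Subgroup (W n)).map K.ι := by
  haveI : Fact (Nat.Prime 2) := ⟨Nat.prime_two⟩
  set P := (Cn u ⊓ S : Subgroup (W n)).map K.ι with hP
  have hPx : P ≤ centralizer ({K.ι x} : Set G) := fun a ⟨b, hb, hab⟩ => hab ▸ mem_centralizer_singleton_iff.mpr
    (by rw [← map_mul, ← map_mul, hxc b hb])
  obtain ⟨c, hc⟩ := isConj_iff.mp hxt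
  obtain ⟨S₀, hS₀⟩ := K.syl
  set S' := (S₀ : Subgroup G).map (MulAut.conj c).toMonoidHom with hS'
  have hS'x : S' ≤ centralizer ({K.ι x} : Set G) := by
    rintro _ ⟨a, ha, rfl⟩
    refine mem_centralizer_singleton_iff.mpr ?_
    show c * a * c⁻¹ * K.ι x = K.ι x * (c * a * c⁻¹)
    rw [← hc]
    calc c * a * c⁻¹ * (c * K.t * c⁻¹) = c * (a * K.t) * c⁻¹ := by group
      _ = _ := by rw [hS₀ a ha]; group
  obtain ⟨R, hR⟩ := (show IsPGroup 2 (P.subgroupOf (centralizer ({K.ι x} : Set G))) from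
    (K.isPGroup_map (S.2.to_le inf_le_right)).comap_subtype).exists_le_sylow
  set RR := (R : Subgroup (centralizer ({K.ι x} : Set G))).map (Subgroup.subtype _) with hRR
  have hle : P ≤ RR := fun a ha => ⟨⟨a, hPx ha⟩, hR ha, rfl⟩
  have hne : P ≠ RR := by
    intro e
    obtain ⟨R', hR'⟩ := (show IsPGroup 2 (S'.subgroupOf (centralizer ({K.ι x} : Set G))) from
      (S₀.2.map _).comap_subtype).exists_le_sylow
    have h1 : Nat.card S' ≤ Nat.card R' := by
      rw [← Nat.card_congr (subgroupOfEquivOfLe hS'x).toEquiv]; exact card_le_of_le hR'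
    have h2 : Nat.card R' = Nat.card RR := by
      rw [hRR, Subgroup.card_map_of_injective (Subgroup.subtype_injective _), R'.card_eq_multiplicity,
        R.card_eq_multiplicity]
    have h3 : Nat.card S' = Nat.card S := by
      rw [hS', Subgroup.card_map_of_injective (MulEquiv.injective _)]
      exact K.sylow_card S S₀
    have h4 : Nat.card RR = Nat.card (Cn u ⊓ S : Subgroup (W n)) := by
      rw [← e, hP, Subgroup.card_map_of_injective K.ι_inj]
    refine hS ?_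
    have h5 : (Cn u ⊓ S : Subgroup (W n)) = S := eq_of_le_of_card_ge inf_le_right (by omega)
    exact h5 ▸ inf_le_left
  have hRR2 : IsPGroup 2 RR := R.2.map _
  obtain ⟨h, hh, hhP, hnorm⟩ := exists_grow hRR2 hle hne
  exact ⟨h, K.grow_moves S hmax hxu hRR2 (map_subtype_le _) hle hh hhP, hnorm⟩

/-- The map induced on centralisers by fusing an element to the central involution. -/
theorem exists_tr {t₁ t₂ : W n} {g : G} (h₁ : g * K.ι t₁ * g⁻¹ = K.t) (h₂ : g * K.t * g⁻¹ = K.ι t₂) :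
    ∃ T : Tr t₁ t₂, (∀ x ∈ Cn t₁, x * x = 1 → K.Cj x (T.F x)) ∧
      ∀ x ∈ Cn t₁, ∀ c : K.C, (c : G) = g * K.ι x * g⁻¹ → T.F x = K.η c := by
  have build : ∀ {t₁ t₂ : W n} {g : G}, g * K.ι t₁ * g⁻¹ = K.t → g * K.t * g⁻¹ = K.ι t₂ →
      ∃ f : Cn t₁ →* Cn t₂, Function.Injective f ∧
        ∀ x : Cn t₁, ∃ c : K.C, (c : G) = g * K.ι x * g⁻¹ ∧ K.η c = f x := by
    intro t₁ t₂ g h₁ h₂
    have hmem : ∀ x : Cn t₁, g * K.ι x * g⁻¹ ∈ K.C := by
      intro x
      rw [K.mem_C, ← h₁]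
      have := congrArg K.ι (mem_Cn.mp x.2)
      rw [map_mul, map_mul] at this
      calc g * K.ι x * g⁻¹ * (g * K.ι t₁ * g⁻¹) = g * (K.ι x * K.ι t₁) * g⁻¹ := by group
        _ = _ := by rw [this]; group
    let c : Cn t₁ →* K.C :=
      { toFun := fun x => ⟨g * K.ι x * g⁻¹, hmem x⟩
        map_one' := Subtype.ext (by simp)
        map_mul' := fun x y => Subtype.ext (by simp [mul_assoc]) }
    have hcen : ∀ x, K.η (c x) ∈ Cn t₂ := by
      intro x
      have h : c x * (⟨K.ι t₂, K.ι_mem t₂⟩ : K.C) = ⟨K.ι t₂, K.ι_mem t₂⟩ * c x := Subtype.ext (by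
        show g * K.ι x * g⁻¹ * K.ι t₂ = K.ι t₂ * (g * K.ι x * g⁻¹)
        rw [← h₂]
        have := (K.mem_C.mp (K.ι_mem (x : W n)))
        calc g * K.ι x * g⁻¹ * (g * K.t * g⁻¹) = g * (K.ι x * K.t) * g⁻¹ := by group
          _ = _ := by rw [this]; group)
      have := congrArg K.η h
      rw [map_mul, map_mul, K.sect] at this
      exact mem_Cn.mpr this
    refine ⟨(K.η.comp c).codRestrict _ hcen, ?_, fun x => ⟨c x, rfl, rfl⟩⟩
    refine (injective_iff_map_eq_one _).mpr fun x hx => ?_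
    by_contra hx1
    let N := (K.η.comp c).ker
    have hNodd : ∀ a ∈ N, Odd (orderOf a) := by
      intro a ha
      have := K.odd (c a) ha
      rwa [show ((c a : K.C) : G) = MulAut.conj g (K.ι a) from rfl, MulEquiv.orderOf_eq,
        orderOf_injective K.ι K.ι_inj, Subgroup.orderOf_coe] at this
    have hxN : x ∈ N := congrArg Subtype.val hx
    have ht : (t₁.σ * t₁.σ = 1) := by
      have : K.ι (t₁ * t₁) = K.ι 1 := by
        have hh : g * K.ι (t₁ * t₁) * g⁻¹ = 1 := by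
          rw [map_mul, show g * (K.ι t₁ * K.ι t₁) * g⁻¹ = g * K.ι t₁ * g⁻¹ * (g * K.ι t₁ * g⁻¹) by group, h₁,
            ← K.ι_z, ← map_mul, z_sq, map_one]
        rw [map_one]
        calc K.ι (t₁ * t₁) = g⁻¹ * (g * K.ι (t₁ * t₁) * g⁻¹) * g := by group
          _ = 1 := by rw [hh]; group
      exact congrArg W.σ (K.ι_inj this)
    have hpat : ∀ i, (x : W n).σ i = i ∨ (x : W n).σ i = t₁.σ i := by
      intro i
      let u : I n → ZMod 2 := fun j => if j = i ∨ j = t₁.σ i then 1 else 0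
      have hu : ev u ∈ Cn t₁ := by
        refine mem_Cn.mpr (comm_ev_iff.mpr fun j => ?_).symm
        simp only [u]
        congr 1
        rw [t₁.σ.injective.eq_iff]
        refine propext ⟨fun h => h.elim (fun e => Or.inr ?_) Or.inl, fun h => h.elim Or.inr fun e => Or.inl ?_⟩
        · rw [← e, ← Perm.mul_apply, ht]; rfl
        · rw [e, ← Perm.mul_apply, ht]; rfl
      have hk : ⟨ev u, hu⟩ * x * (⟨ev u, hu⟩ : Cn t₁)⁻¹ * x⁻¹ ∈ N :=
        mul_mem ((MonoidHom.normal_ker _).conj_mem x hxN _) (inv_mem hxN)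
      have h1 := hNodd _ hk
      have e1 : ev u * (x : W n) * (ev u)⁻¹ * (x : W n)⁻¹ = ev (u + fun j => u ((x : W n).σ⁻¹ j)) := by
        rw [show ev u * (x : W n) * (ev u)⁻¹ * (x : W n)⁻¹ = ev u * ((x : W n) * (ev u)⁻¹ * (x : W n)⁻¹) by group,
          inv_eq_of_mul_eq_one_right (show ev u * ev u = 1 by
            rw [ev_mul, show u + u = 0 from funext fun _ => two_self _, ev_zero]), conj_ev, ev_mul]
      have e2 : orderOf (ev (u + fun j => u ((x : W n).σ⁻¹ j))) ∣ 2 := orderOf_dvd_of_pow_eq_one (by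
        rw [pow_two, ev_mul]
        exact (congrArg ev (funext fun _ => two_self _)).trans ev_zero)
      rw [← Subgroup.orderOf_coe] at h1
      simp only [Subgroup.coe_mul, Subgroup.coe_inv, e1] at h1
      have e3 : ev (u + fun j => u ((x : W n).σ⁻¹ j)) = 1 := orderOf_eq_one_iff.mp (by
        rcases (Nat.dvd_prime Nat.prime_two).mp e2 with e | e
        · exact e
        · rw [e] at h1; exact absurd h1 (by decide))
      have e4 := congrFun (congrArg W.v e3) ((x : W n).σ i)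
      simp only [ev_v, Pi.add_apply, inv_app, one_v] at e4
      have e5 := eq_of_add e4
      rw [show u i = 1 from if_pos (Or.inl rfl)] at e5
      by_contra hc
      simp only [u, if_neg hc] at e5
      exact zero_ne_one e5
    have hsq : (x : W n).σ * (x : W n).σ = 1 := Perm.ext fun i => by
      rw [Perm.mul_apply, Perm.one_apply]
      rcases hpat i with e | e
      · rw [e, e]
      · rw [e]
        rcases hpat (t₁.σ i) with e' | e'
        · rw [e', ← e]
          exact ((x : W n).σ.injective (show (x : W n).σ ((x : W n).σ i) = (x : W n).σ i by rw [e, e']))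
        · rw [e', ← Perm.mul_apply, ht]; rfl
    have hev := eq_ev (show ((x : W n) * x).σ = 1 from hsq)
    have h4 : x ^ 4 = 1 := Subtype.ext (by
      rw [Subgroup.coe_pow, show (4 : ℕ) = 2 * 2 from rfl, pow_mul, pow_two, pow_two, hev, ev_mul]
      exact (congrArg ev (funext fun _ => two_self _)).trans ev_zero)
    have h5 := orderOf_dvd_of_pow_eq_one h4
    refine hx1 (orderOf_eq_one_iff.mp ?_)
    have h6 := hNodd x hxN
    obtain ⟨i, -, hi⟩ := (Nat.dvd_prime_pow Nat.prime_two).mp (show orderOf x ∣ 2 ^ 2 from h5)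
    rcases Nat.eq_zero_or_pos i with rfl | hpos
    · rw [hi, pow_zero]
    · rw [hi] at h6
      exact absurd (even_two.pow_of_ne_zero (by omega)) (Nat.not_even_iff_odd.mpr h6)
  obtain ⟨f, hf, hfc⟩ := build h₁ h₂
  obtain ⟨f', hf', -⟩ := build (t₁ := t₂) (t₂ := t₁) (g := g⁻¹) (by rw [← h₂]; group) (by rw [← h₁]; group)
  have hbij : Function.Bijective f :=
    hf.bijective_of_nat_card_le (Nat.card_le_card_of_injective f' hf')
  let e := MulEquiv.ofBijective f hbij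
  have hval : ∀ x : Cn t₁, ∀ y, g * K.ι x * g⁻¹ = K.ι y → (f x : W n) = y := by
    intro x y hy
    obtain ⟨c, hc, hce⟩ := hfc x
    rw [← hce, K.sect' (hc.trans hy)]
  let T : Tr t₁ t₂ := ⟨e, hval ⟨t₁, self_mem t₁⟩ zW (by rw [K.ι_z]; exact h₁),
    hval ⟨zW, z_mem t₁⟩ t₂ (by rw [K.ι_z]; exact h₂)⟩
  refine ⟨T, fun x hx hxx => ?_, fun x hx c hc => by
    rw [T.F_eq hx]
    obtain ⟨c', hc', hce⟩ := hfc ⟨x, hx⟩
    rw [show c = c' from Subtype.ext (hc.trans hc'.symm)]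
    exact hce.symm⟩
  rw [T.F_eq hx]
  show IsConj (K.ι x) (K.ι (f ⟨x, hx⟩))
  obtain ⟨c, hc, hce⟩ := hfc ⟨x, hx⟩
  obtain ⟨d, -, hd⟩ := K.invol_conj c (Subtype.ext (by
    rw [Subgroup.coe_mul, hc,
      show g * K.ι x * g⁻¹ * (g * K.ι x * g⁻¹) = g * (K.ι x * K.ι x) * g⁻¹ by group,
      ← map_mul, hxx, map_one]
    rw [mul_one, mul_inv_cancel, Subgroup.coe_one]))
  rw [← hce, ← hd, hc]
  exact isConj_iff.mpr ⟨d * g, by group⟩

/-- A conjugate of the central involution in the wreath product gives a map. -/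
theorem exists_tr_of_conj {x : W n} (hx : IsConj K.t (K.ι x)) :
    ∃ t₂ : W n, IsConj K.t (K.ι t₂) ∧ ∃ T : Tr x t₂, ∀ y ∈ Cn x, y * y = 1 → K.Cj y (T.F y) := by
  obtain ⟨g, hg⟩ := isConj_iff.mp hx.symm
  have hmem : g * K.t * g⁻¹ ∈ K.C := by
    rw [K.mem_C]
    have h := K.mem_C.mp (K.ι_mem x)
    have h' : g * K.t * g⁻¹ * (g * K.ι x * g⁻¹) = g * K.ι x * g⁻¹ * (g * K.t * g⁻¹) := by
      calc g * K.t * g⁻¹ * (g * K.ι x * g⁻¹) = g * (K.t * K.ι x) * g⁻¹ := by group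
        _ = g * (K.ι x * K.t) * g⁻¹ := by rw [h]
        _ = _ := by group
    rwa [hg] at h'
  have htt : K.t * K.t = 1 := by rw [← K.ι_z, ← map_mul, z_sq, map_one]
  obtain ⟨d, hdC, hd⟩ := K.invol_conj ⟨_, hmem⟩ (Subtype.ext (by
    show g * K.t * g⁻¹ * (g * K.t * g⁻¹) = 1
    rw [show g * K.t * g⁻¹ * (g * K.t * g⁻¹) = g * (K.t * K.t) * g⁻¹ by group, htt]
    group))
  have h₁ : (d * g) * K.ι x * (d * g)⁻¹ = K.t := by
    rw [show d * g * K.ι x * (d * g)⁻¹ = d * (g * K.ι x * g⁻¹) * d⁻¹ by group, hg, K.mem_C.mp hdC,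
      mul_inv_cancel_right]
  have h₂ : (d * g) * K.t * (d * g)⁻¹ = K.ι (K.η ⟨_, hmem⟩) := by
    rw [← hd]; group
  obtain ⟨T, hT, -⟩ := K.exists_tr h₁ h₂
  exact ⟨_, isConj_iff.mpr ⟨_, h₂⟩, T, hT⟩

/-- A vector fused to the central involution is odd, or the all-one vector. -/
theorem odd_of_conj {v : I n → ZMod 2} (h : IsConj K.t (K.ι (ev v))) : ∑ i, v i = 1 ∨ ev v = zW := by
  rcases zmod_cases (∑ i, v i) with e | e
  · right
    by_contra hne
    obtain ⟨t₂, -, T, -⟩ := K.exists_tr_of_conj h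
    refine T.no_even e ?_
    by_contra hc
    push Not at hc
    exact hne (congrArg ev (funext fun i => (zmod_cases (v i)).resolve_left (hc i)))
  · exact Or.inl e

theorem t₂_odd {v : I n → ZMod 2} {t₂ : W n} (T : Tr (ev v) t₂) (hv : ∑ i, v i = 1) (h₂ : IsConj K.t (K.ι t₂))
    (hσ : t₂.σ = 1) : ∑ i, t₂.v i = 1 := by
  rw [eq_ev hσ] at h₂
  refine (K.odd_of_conj h₂).resolve_right fun e => ?_
  have h1 : ev v = zW := T.F_inj (self_mem _) (z_mem _) (by rw [T.F_t, T.F_z, eq_ev hσ, e])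
  have : ∑ i, v i = 0 := by
    rw [ev_inj h1, Finset.sum_const, Finset.card_univ, nsmul_eq_mul, mul_one, card_I_zero]
  exact one_ne_zero (hv.symm.trans this)

end Ctx

end CfsgLib.AltCentClasses
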