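import Cfsg.Agent.Lib.AltCentClasses.Fusion

/-!
Every involution is fused to a vector: one element moving the central involution lowers the number of moved places.
-/

set_option autoImplicit false
set_option linter.unusedSimpArgs false
set_option linter.unusedSectionVars false
set_option linter.style.haveILetI false

namespace CfsgLib.AltCentClasses

open Equiv Subgroup

variable {n : ℕ} {G : Type*} [Group G] [Finite G]

theorem ev_mem_sylow (S : Sylow 2 (W n)) (v : I n → ZMod 2) : ev v ∈ (S : Subgroup (W n)) := by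
  let E : Subgroup (W n) :=
    { carrier := {x | x.σ = 1}
      one_mem' := rfl
      mul_mem' := fun {a b} ha hb => by
        show (a * b).σ = 1
        rw [mul_σ, show a.σ = 1 from ha, show b.σ = 1 from hb, one_mul]
      inv_mem' := fun {a} ha => by
        show (a⁻¹).σ = 1
        rw [inv_σ, show a.σ = 1 from ha, inv_one] }
  haveI : E.Normal := ⟨fun x hx g => by
    show (g * x * g⁻¹).σ = 1
    rw [mul_σ, mul_σ, show x.σ = 1 from hx, mul_one, inv_σ, mul_inv_cancel]⟩
  have hp : IsPGroup 2 E := fun x => ⟨1, Subtype.ext (by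
    rw [pow_one, Subgroup.coe_pow, pow_two, eq_ev (x.2 : (x : W n).σ = 1), ev_mul]
    exact (congrArg ev (funext fun _ => two_self _)).trans ev_zero)⟩
  obtain ⟨R, hR⟩ := hp.exists_le_sylow
  obtain ⟨g, hg⟩ := MulAction.exists_smul_eq (W n) R S
  rw [← hg, Sylow.coe_subgroup_smul, Subgroup.pointwise_smul_def]
  refine ⟨g⁻¹ * ev v * g, hR ?_, by show g * (g⁻¹ * ev v * g) * g⁻¹ = ev v; group⟩
  show (g⁻¹ * ev v * g).σ = 1
  rw [mul_σ, mul_σ, inv_σ, ev_σ, mul_one, inv_mul_cancel]

/-- The vector of a block. -/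
def blk (k : Fin n) : I n → ZMod 2 := fun i => if i.1 = k then 1 else 0

theorem blk_pr (k : Fin n) (i : I n) : blk k (pr i) = blk k i := if_congr (by rw [pr_fst]) rfl rfl

theorem blk_eq (k : Fin n) (i : I n) : blk k i = eI (k, false) i + eI (k, true) i := by
  obtain ⟨l, b⟩ := i
  by_cases h : l = k
  · subst h; cases b <;> simp [blk, eI]
  · simp [blk, eI, h]

/-- The permutation preserves each block. -/
def BlockWise (σ : Perm (I n)) : Prop := ∀ i, (σ i).1 = i.1

theorem BlockWise.pr {σ : Perm (I n)} (h : BlockWise σ) (i : I n) : σ (pr i) = pr (σ i) :=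
  (eq_or_pr (show (σ (CfsgLib.AltCentClasses.pr i)).1 = (σ i).1 by rw [h, h, pr_fst])).resolve_left
    fun e => pr_ne i (σ.injective e)

theorem BlockWise.invol {σ : Perm (I n)} (h : BlockWise σ) (i : I n) : σ (σ i) = i := by
  rcases eq_or_pr (h i) with e | e
  · rw [e, e]
  · rw [e, h.pr, e, pr_pr]

theorem BlockWise.inv {σ : Perm (I n)} (h : BlockWise σ) : σ⁻¹ = σ :=
  inv_eq_of_mul_eq_one_right (Perm.ext fun i => h.invol i)

theorem BlockWise.comm_tk {σ : Perm (I n)} (h : BlockWise σ) (k : Fin n) : σ * tk k = tk k * σ := by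
  refine Perm.ext fun i => ?_
  rw [Perm.mul_apply, Perm.mul_apply, tk_apply, tk_apply, h]
  split_ifs
  exacts [h.pr i, rfl]

theorem tk_blockWise (k : Fin n) : BlockWise (tk k) := fun i => by
  rw [tk_apply]; split_ifs <;> simp [pr_fst]

/-- The first block is kept. -/
theorem block_of_comm {σ : Perm (I n)} {k : Fin n} (h : σ * tk k = tk k * σ) (i : I n) :
    (σ i).1 = k ↔ i.1 = k := by
  have h' := Perm.ext_iff.mp h i
  rw [Perm.mul_apply, Perm.mul_apply, tk_apply, tk_apply] at h'
  constructor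
  · intro e
    by_contra hi
    rw [if_neg hi, if_pos e] at h'
    exact pr_ne _ h'.symm
  · intro e
    by_contra hi
    rw [if_pos e, if_neg hi] at h'
    exact pr_ne _ (σ.injective h')

/-- Vector constant on the first block, permutation preserving all blocks. -/
def InQ (k₀ : Fin n) (x : W n) : Prop := (∀ i, i.1 = k₀ → x.v (pr i) = x.v i) ∧ BlockWise x.σ

/-- An involution with permutation the first swap and constant on blocks. -/
def Std (k₀ : Fin n) (t : W n) : Prop := t.σ = tk k₀ ∧ ∀ i, t.v (pr i) = t.v i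

theorem Std.v_tk {k₀ : Fin n} {t : W n} (h : Std k₀ t) (k : Fin n) (i : I n) : t.v (tk k i) = t.v i := by
  rw [tk_apply]; split_ifs
  exacts [h.2 i, rfl]

theorem Std.v_bw {k₀ : Fin n} {t : W n} (h : Std k₀ t) {σ : Perm (I n)} (hσ : BlockWise σ) (i : I n) :
    t.v (σ i) = t.v i := by
  rcases eq_or_pr (hσ i) with e | e <;> rw [e]
  exact h.2 i

theorem InQ.v_tk {k₀ : Fin n} {x : W n} (h : InQ k₀ x) (i : I n) : x.v (tk k₀ i) = x.v i := by
  rw [tk_apply]; split_ifs with e
  exacts [h.1 i e, rfl]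

theorem InQ.mem_Cn {k₀ : Fin n} {x t : W n} (h : InQ k₀ x) (ht : Std k₀ t) : x ∈ Cn t := by
  refine CfsgLib.AltCentClasses.mem_Cn.mpr (comm_iff.mpr ⟨?_, fun i => ?_⟩)
  · rw [ht.1]; exact h.2.comm_tk k₀
  · rw [h.2.inv, ht.v_bw h.2, ht.1, (tk_blockWise k₀).inv, h.v_tk, add_comm]

theorem tau_std (k₀ : Fin n) : Std k₀ (pp (tk k₀)) := ⟨rfl, fun _ => rfl⟩

/-- An element commuting with all such elements. -/
theorem cen {k₀ : Fin n} {y : W n} (h : ∀ x, InQ k₀ x → y * x = x * y) :
    (∀ i, y.v (pr i) = y.v i) ∧ (y.σ = 1 ∨ y.σ = tk k₀) := by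
  have hout : ∀ j : I n, j.1 ≠ k₀ → y.σ j = j := by
    intro j hj
    refine fix_of_comm_eI (h _ ⟨fun i hi => ?_, fun _ => rfl⟩)
    rw [ev_v, eI_ne, eI_ne]
    · rintro rfl; exact hj hi
    · intro e; exact hj (e ▸ hi)
  have hin : ∀ j : I n, j.1 = k₀ → (y.σ j).1 = k₀ := by
    intro j hj
    by_contra hc
    exact hc (by rw [y.σ.injective (hout _ hc)]; exact hj)
  refine ⟨fun i => ?_, ?_⟩
  · have := (comm_iff.mp (h (pp (tk i.1)) ⟨fun _ _ => rfl, tk_blockWise _⟩)).2 i
    simp only [pp_v, pp_σ, add_zero, zero_add, (tk_blockWise i.1).inv, tk_apply, if_true] at this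
    exact this.symm
  · rcases eq_or_pr (show (y.σ (k₀, false)).1 = ((k₀, false) : I n).1 from hin (k₀, false) rfl) with e | e
    · left
      refine Perm.ext fun j => ?_
      by_cases hj : j.1 = k₀
      · rcases eq_or_pr (show j.1 = ((k₀, false) : I n).1 from hj) with rfl | rfl
        · exact e
        · rcases eq_or_pr (show (y.σ (pr (k₀, false))).1 = ((k₀, false) : I n).1 from hin _ rfl) with e' | e'
          · exact absurd (y.σ.injective (e'.trans e.symm)) (pr_ne _)
          · exact e'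
      · exact hout j hj
    · right
      refine Perm.ext fun j => ?_
      by_cases hj : j.1 = k₀
      · rw [tk_apply, if_pos hj]
        rcases eq_or_pr (show j.1 = ((k₀, false) : I n).1 from hj) with rfl | rfl
        · exact e
        · rcases eq_or_pr (show (y.σ (pr (k₀, false))).1 = ((k₀, false) : I n).1 from hin _ rfl) with e' | e'
          · rw [e', pr_pr]
          · exact absurd (y.σ.injective (e'.trans e.symm)) (pr_ne _)
      · rw [tk_apply, if_neg hj]; exact hout j hj

theorem sum_pr {v : I n → ZMod 2} (h : ∀ i, v (pr i) = v i) : ∑ i, v i = 0 :=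
  Finset.sum_involution (fun i _ => pr i) (fun i _ => by rw [h, two_self]) (fun i _ _ => pr_ne i)
    (fun i _ => Finset.mem_univ _) (fun i _ => pr_pr i)

namespace Ctx

variable (K : Ctx G n)

/-- The pair of elements and the map moving the central involution. -/
theorem exists_pair (k₀ : Fin n) : ∃ t' t'' : W n, Std k₀ t' ∧ Std k₀ t'' ∧ IsConj K.t (K.ι t') ∧
    IsConj K.t (K.ι t'') ∧ ∃ T : Tr t' t'', (∀ x ∈ Cn t', x * x = 1 → K.Cj x (T.F x)) ∧
      (T.F (ev (blk k₀))).σ (k₀, false) = (k₀, true) := by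
  classical
  haveI : Fact (Nat.Prime 2) := ⟨Nat.prime_two⟩
  let Q : Subgroup (W n) :=
    { carrier := {x | InQ k₀ x}
      one_mem' := ⟨fun _ _ => rfl, fun _ => rfl⟩
      mul_mem' := fun {a b} ha hb => ⟨fun i hi => by
          rw [mul_v, mul_v, ha.2.inv, ha.1 i hi, ha.2.pr, hb.1 _ ((ha.2 i).trans hi)],
        fun i => by rw [mul_σ, Perm.mul_apply, ha.2, hb.2]⟩
      inv_mem' := fun {a} ha => ⟨fun i hi => by
          rw [inv_v, inv_v, ha.2.pr, ha.1 _ ((ha.2 i).trans hi)],
        fun i => by rw [inv_σ, ha.2.inv, ha.2]⟩ }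
  have hQ2 : IsPGroup 2 Q := fun x => ⟨2, Subtype.ext (by
    have hσ : ((x : W n) * x).σ = 1 := Perm.ext fun i => x.2.2.invol i
    rw [Subgroup.coe_pow, show 2 ^ 2 = 2 * 2 from rfl, pow_mul, pow_two, pow_two, eq_ev hσ, ev_mul]
    exact (congrArg ev (funext fun _ => two_self _)).trans ev_zero)⟩
  set τ : W n := pp (tk k₀) with hτ
  have hττ : τ * τ = 1 := by rw [hτ, pp_mul, tk_tk]; rfl
  obtain ⟨S, hS, hmax⟩ := exists_sylow_cent τ Q hQ2 fun x hx => InQ.mem_Cn hx (tau_std k₀)
  have hτS : τ ∈ (S : Subgroup (W n)) := (hS (show τ ∈ Q from ⟨fun _ _ => rfl, tk_blockWise k₀⟩)).2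
  obtain ⟨x, hx, hxz, hxt, hxc⟩ := K.exists_central_conj hττ S hτS hmax sgn (sign_tk k₀)
  set P := (Cn τ ⊓ S : Subgroup (W n)) with hP
  -- central elements of the part fused to the central involution
  have hstd : ∀ y, (∀ a ∈ P, y * a = a * y) → y ≠ zW → IsConj K.t (K.ι y) → Std k₀ y := by
    intro y hyc hyz hyt
    obtain ⟨h1, h2⟩ := cen fun a ha => hyc a (hS ha)
    rcases h2 with h2 | h2
    · exfalso
      rw [eq_ev h2] at hyt hyz
      refine hyz ((K.odd_of_conj hyt).resolve_left fun e => ?_)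
      rw [sum_pr h1] at e
      exact zero_ne_one e
    · exact ⟨h2, h1⟩
  have hxs := hstd x hxc hxz hxt
  have hxu : Cn x ≤ Cn τ := by
    intro y hy
    obtain ⟨hσ, hv⟩ := comm_iff.mp (mem_Cn.mp hy)
    rw [hxs.1] at hσ
    refine mem_Cn.mpr (comm_iff.mpr ⟨hσ, fun i => ?_⟩)
    have h := hv i
    rw [hxs.1] at h
    simp only [hτ, pp_v, pp_σ, add_zero, zero_add]
    by_cases hi : i.1 = k₀
    · rw [(tk_blockWise k₀).inv, tk_apply, if_pos hi] at h ⊢
      have hb : (y.σ⁻¹ i).1 = k₀ := (block_of_comm hσ _).mp (by rw [app_inv]; exact hi)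
      rw [show x.v (y.σ⁻¹ i) = x.v i from by
        rcases eq_or_pr (hb.trans hi.symm) with e | e <;> rw [e]
        exact hxs.2 i, add_comm] at h
      exact add_left_cancel h
    · rw [(tk_blockWise k₀).inv, tk_apply, if_neg hi]
  have hSC : ¬ (S : Subgroup (W n)) ≤ Cn τ := by
    intro hle
    have := comm_ev_iff.mp ((mem_Cn.mp (hle (ev_mem_sylow S (eI (k₀, false))))).symm) (k₀, false)
    rw [hτ, pp_σ, tk_apply, if_pos rfl, eI_self, eI_ne (pr_ne _)] at this
    exact zero_ne_one this
  obtain ⟨h, hmove, hnorm⟩ := K.exists_mover S hSC hmax hxc hxu hxt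
  have hzP : zW ∈ P := ⟨z_mem _, z_mem_sylow S⟩
  have htP : K.t ∈ P.map K.ι := ⟨zW, hzP, K.ι_z⟩
  obtain ⟨t'', ht''P, ht''⟩ := (hnorm K.t).mp htP
  obtain ⟨t', ht'P, ht'⟩ := (hnorm (h⁻¹ * K.t * h)).mpr (by
    rw [show h * (h⁻¹ * K.t * h) * h⁻¹ = K.t by group]; exact htP)
  have hbC : ∀ {b : G}, b ∈ P.map K.ι → b * K.t = K.t * b := fun ⟨c, _, hc⟩ => hc ▸ K.mem_C.mp (K.ι_mem c)
  have c'' : ∀ a ∈ P, t'' * a = a * t'' := by
    intro a ha
    refine K.ι_inj ?_
    rw [map_mul, map_mul, ht'']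
    have hb : h⁻¹ * K.ι a * h ∈ P.map K.ι := (hnorm _).mpr (by
      rw [show h * (h⁻¹ * K.ι a * h) * h⁻¹ = K.ι a by group]; exact ⟨a, ha, rfl⟩)
    calc h * K.t * h⁻¹ * K.ι a = h * (K.t * (h⁻¹ * K.ι a * h)) * h⁻¹ := by group
      _ = _ := by rw [← hbC hb]; group
  have c' : ∀ a ∈ P, t' * a = a * t' := by
    intro a ha
    refine K.ι_inj ?_
    rw [map_mul, map_mul, ht']
    have hb : h * K.ι a * h⁻¹ ∈ P.map K.ι := (hnorm _).mp ⟨a, ha, rfl⟩
    calc h⁻¹ * K.t * h * K.ι a = h⁻¹ * (K.t * (h * K.ι a * h⁻¹)) * h := by group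
      _ = _ := by rw [← hbC hb]; group
  have hct'' : IsConj K.t (K.ι t'') := isConj_iff.mpr ⟨h, ht''.symm⟩
  have hct' : IsConj K.t (K.ι t') := isConj_iff.mpr ⟨h⁻¹, by rw [ht', inv_inv]⟩
  have hs'' := hstd t'' c'' (fun e => hmove (by rw [← ht'', e, K.ι_z])) hct''
  have hs' := hstd t' c' (fun e => hmove (by
    rw [e, K.ι_z] at ht'
    conv_lhs => rw [ht']
    group)) hct'
  obtain ⟨T, hT, hTF⟩ := K.exists_tr (t₁ := t') (t₂ := t'') (g := h) (by rw [ht']; group) ht''.symm
  refine ⟨t', t'', hs', hs'', hct', hct'', T, hT, ?_⟩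
  set χ := blk k₀ with hχ
  have hχQ : InQ k₀ (ev χ) := ⟨fun i _ => by simp only [ev_v, hχ, blk_pr], fun _ => rfl⟩
  have hχP : ev χ ∈ P := hS hχQ
  have hχc : ∀ a ∈ P, ev χ * a = a * ev χ := by
    intro a ha
    refine (comm_ev_iff.mpr fun i => ?_).symm
    have hc := (comm_iff.mp (mem_Cn.mp ha.1)).1
    exact if_congr (block_of_comm hc i) rfl rfl
  obtain ⟨y, hyP, hy⟩ := (hnorm (K.ι (ev χ))).mp ⟨ev χ, hχP, rfl⟩
  have hyc : ∀ a ∈ P, y * a = a * y := by
    intro a ha
    refine K.ι_inj ?_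
    rw [map_mul, map_mul, hy]
    obtain ⟨b, hb, hba⟩ := (hnorm (h⁻¹ * K.ι a * h)).mpr (by
      rw [show h * (h⁻¹ * K.ι a * h) * h⁻¹ = K.ι a by group]; exact ⟨a, ha, rfl⟩)
    calc h * K.ι (ev χ) * h⁻¹ * K.ι a = h * (K.ι (ev χ) * (h⁻¹ * K.ι a * h)) * h⁻¹ := by group
      _ = _ := by rw [← hba, ← map_mul, hχc b hb, map_mul, hba]; group
  have hFy : T.F (ev χ) = y := by
    rw [hTF (ev χ) (InQ.mem_Cn hχQ hs') ⟨K.ι y, K.ι_mem y⟩ hy, K.sect]
  obtain ⟨h1, h2⟩ := cen fun a ha => hyc a (hS ha)
  rw [hFy]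
  rcases h2 with h2 | h2
  · exfalso
    -- `t'` times the vector is fused to `t'`
    have e1 : ev (eI (k₀, false)) * t' * (ev (eI (k₀, false)))⁻¹ = t' * ev χ := by
      rw [inv_eq_of_mul_eq_one_right (show ev (eI (k₀, false)) * ev (eI (k₀, false)) = 1 by
        rw [ev_mul]; exact (congrArg ev (funext fun _ => two_self _)).trans ev_zero)]
      refine W.ext (funext fun i => ?_) (by simp [mul_σ, ev_σ])
      simp only [mul_v, mul_σ, ev_σ, ev_v, one_mul, inv_one, Perm.one_apply, hs'.1, (tk_blockWise k₀).inv,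
        tk_apply, hχ]
      by_cases hi : i.1 = k₀
      · rw [if_pos hi]
        rcases eq_or_pr (show i.1 = ((k₀, false) : I n).1 from hi) with rfl | rfl <;>
          simp [blk_eq, pr_pr, eI, pr_apply, add_comm]
      · rw [if_neg hi, eI_ne (fun e => hi (by rw [e])), zero_add, add_zero, blk, if_neg hi, add_zero]
    have e2 : IsConj K.t (K.ι (ev ((fun _ => 1) + y.v))) := by
      refine hct'.trans (isConj_iff.mpr ⟨h * K.ι (ev (eI (k₀, false))), ?_⟩)
      rw [← ev_mul, show ev y.v = y from (eq_ev h2).symm, map_mul, show ev (fun _ : I n => (1 : ZMod 2)) = zW from rfl,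
        K.ι_z, hy]
      have e3 := congrArg K.ι e1
      rw [map_mul, map_mul, map_inv, map_mul] at e3
      calc h * K.ι (ev (eI (k₀, false))) * K.ι t' * (h * K.ι (ev (eI (k₀, false))))⁻¹
          = h * (K.ι (ev (eI (k₀, false))) * K.ι t' * (K.ι (ev (eI (k₀, false))))⁻¹) * h⁻¹ := by group
        _ = h * (K.ι t' * K.ι (ev χ)) * h⁻¹ := by rw [e3]
        _ = _ := by rw [ht']; group
    have e3 : ev y.v = 1 := by
      rcases K.odd_of_conj e2 with e | e
      · rw [show ∑ i, ((fun _ : I n => (1 : ZMod 2)) + y.v) i = ∑ _i : I n, (1 : ZMod 2) + ∑ i, y.v i from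
          Finset.sum_add_distrib, sum_one, sum_pr h1, add_zero] at e
        exact absurd e zero_ne_one
      · rw [← ev_mul] at e
        exact mul_eq_left.mp e
    have : K.ι (ev χ) = 1 := by
      rw [show K.ι (ev χ) = h⁻¹ * (h * K.ι (ev χ) * h⁻¹) * h by group, ← hy, eq_ev h2, e3, map_one]
      group
    have := congrFun (congrArg W.v (K.ι_inj (this.trans (map_one _).symm))) (k₀, false)
    simp [hχ, blk, ev_v, one_v] at this
  · rw [h2, tk_apply, if_pos rfl]; rfl

end Ctx

theorem delta_gen (u : I n → ZMod 2) {y : W n} (hy : y * y = 1) :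
    ev u * y * (ev u)⁻¹ * y⁻¹ = ev (fun i => u i + u (y.σ i)) := by
  rw [inv_eq_of_mul_eq_one_right hy, inv_eq_of_mul_eq_one_right (show ev u * ev u = 1 by
    rw [ev_mul]; exact (congrArg ev (funext fun _ => two_self _)).trans ev_zero)]
  have := conj_ev y u
  rw [inv_eq_of_mul_eq_one_right hy] at this
  rw [show ev u * y * ev u * y = ev u * (y * ev u * y) by group, this, ev_mul]
  exact congrArg ev (funext fun i => by
    show u i + u (y.σ⁻¹ i) = _
    rw [inv_eq_of_mul_eq_one_right (congrArg W.σ hy : y.σ * y.σ = 1)])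

theorem NE_conj (σ : Perm (I n)) (x : W n) : NE (pp σ * x * (pp σ)⁻¹) = NE x := by
  rw [conj_pp]
  refine Nat.card_congr (Equiv.subtypeEquiv ((Equiv.arrowCongr σ (Equiv.refl _)).symm) fun u => ?_)
  refine ⟨fun h i => ?_, fun h i => ?_⟩
  · have := h (σ i)
    simpa using this
  · have := h (σ⁻¹ i)
    simpa using this

namespace Ctx

variable (K : Ctx G n)

include K in
/-- An involution with even vector is fused to one in aligned position. -/
theorem exists_aligned (k₀ : Fin n) {x : W n} (hx : x * x = 1) (hσ : x.σ ≠ 1) (hpar : ∑ i, x.v i = 0) :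
    ∃ y : W n, y * y = 1 ∧ K.Cj x y ∧ NE y = NE x ∧ (∀ i, y.v (pr i) = y.v i) ∧ BlockWise y.σ ∧
      y.σ (k₀, false) = (k₀, true) := by
  classical
  obtain ⟨hs, hv⟩ := sq_iff.mp hx
  have hinv : ∀ i, x.σ (x.σ i) = i := fun i => Perm.ext_iff.mp hs i
  have hsplit : ∀ a : ZMod 2, Even (Fintype.card {i // x.σ i = i ∧ x.v i = a}) := by
    intro a
    rw [← ZMod.natCast_eq_zero_iff_even, Fintype.card_subtype, Finset.card_filter, Nat.cast_sum]
    have key : ∀ f : I n → ZMod 2, (∀ i, f (x.σ i) = f i) → (∑ i, f i = 0) →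
        ∑ i, (if x.σ i = i then f i else 0) = 0 := by
      intro f hf h0
      rw [← Finset.sum_filter]
      rw [← Finset.sum_filter_add_sum_filter_not Finset.univ fun i => x.σ i = i] at h0
      rwa [show ∑ i ∈ Finset.univ.filter (fun i => ¬ x.σ i = i), f i = 0 from
        Finset.sum_involution (fun i _ => x.σ i) (fun i _ => by rw [hf, two_self])
          (fun i hi _ => (Finset.mem_filter.mp hi).2)
          (fun i hi => Finset.mem_filter.mpr ⟨Finset.mem_univ _,
            fun e => (Finset.mem_filter.mp hi).2 (x.σ.injective e)⟩) fun i _ => hinv i, add_zero] at h0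
    rcases zmod_cases a with rfl | rfl
    · refine Eq.trans (Finset.sum_congr rfl fun i _ => ?_)
        (key (fun i => 1 + x.v i) (fun i => by rw [hv]) (by rw [Finset.sum_add_distrib, sum_one, hpar, add_zero]))
      rcases zmod_cases (x.v i) with e | e <;> by_cases h : x.σ i = i <;> simp [e, h, two_self]
    · refine Eq.trans (Finset.sum_congr rfl fun i _ => ?_) (key x.v hv hpar)
      rcases zmod_cases (x.v i) with e | e <;> by_cases h : x.σ i = i <;> simp [e, h]
  obtain ⟨p0, hp0, hf0⟩ := exists_pairing (hsplit 0)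
  obtain ⟨p1, hp1, hf1⟩ := exists_pairing (hsplit 1)
  let r0 := Perm.ofSubtype p0
  let r1 := Perm.ofSubtype p1
  let ρ : I n → I n := fun i => if x.σ i = i then (if x.v i = 0 then r0 i else r1 i) else x.σ i
  have hρ : ∀ i, ρ (ρ i) = i ∧ ρ i ≠ i ∧ x.v (ρ i) = x.v i ∧ (x.σ i ≠ i → ρ i = x.σ i) := by
    intro i
    by_cases h : x.σ i = i
    · rcases zmod_cases (x.v i) with e | e
      · have h1 : ρ i = (p0 ⟨i, h, e⟩ : I n) := by
          simp only [ρ, if_pos h, if_pos e, r0]
          exact Perm.ofSubtype_apply_of_mem p0 ⟨h, e⟩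
        obtain ⟨a, b⟩ := (p0 ⟨i, h, e⟩).2
        refine ⟨?_, fun e' => hf0 ⟨i, h, e⟩ (Subtype.ext (h1.symm.trans e')), by rw [h1, b, e], fun e' => absurd h e'⟩
        rw [h1]
        simp only [ρ, if_pos a, if_pos b, r0]
        rw [Perm.ofSubtype_apply_of_mem p0 (show x.σ _ = _ ∧ x.v _ = 0 from ⟨a, b⟩)]
        exact congrArg Subtype.val (hp0 ⟨i, h, e⟩)
      · have hne : ¬ x.v i = 0 := by rw [e]; exact one_ne_zero
        have h1 : ρ i = (p1 ⟨i, h, e⟩ : I n) := by
          simp only [ρ, if_pos h, if_neg hne, r1]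
          exact Perm.ofSubtype_apply_of_mem p1 ⟨h, e⟩
        obtain ⟨a, b⟩ := (p1 ⟨i, h, e⟩).2
        refine ⟨?_, fun e' => hf1 ⟨i, h, e⟩ (Subtype.ext (h1.symm.trans e')), by rw [h1, b, e], fun e' => absurd h e'⟩
        rw [h1]
        simp only [ρ, if_pos a, b, one_ne_zero, if_false, r1]
        rw [Perm.ofSubtype_apply_of_mem p1 (show x.σ _ = _ ∧ x.v _ = 1 from ⟨a, b⟩)]
        exact congrArg Subtype.val (hp1 ⟨i, h, e⟩)
    · have h1 : ρ i = x.σ i := if_neg h
      have h2 : ¬ x.σ (x.σ i) = x.σ i := fun e => h (x.σ.injective e)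
      refine ⟨?_, by rw [h1]; exact h, by rw [h1, hv], fun _ => h1⟩
      rw [h1, show ρ (x.σ i) = x.σ (x.σ i) from if_neg h2, hinv]
  obtain ⟨a, ha⟩ : ∃ a, x.σ a ≠ a := by
    by_contra hc
    push Not at hc
    exact hσ (Perm.ext hc)
  obtain ⟨σ₀, hσ₀⟩ := exists_align (ρ := ⟨ρ, ρ, fun i => (hρ i).1, fun i => (hρ i).1⟩) (fun i => (hρ i).1)
    fun i => (hρ i).2.1
  let β : Perm (I n) := Equiv.prodCongr (swap (σ₀ a).1 k₀) (Equiv.refl Bool)
  have hβ : ∀ i, β (pr i) = pr (β i) := fun i => rfl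
  set σ' := β * σ₀ with hσ'
  have hal : ∀ i, σ' (ρ i) = pr (σ' i) := fun i => by
    rw [hσ', Perm.mul_apply, Perm.mul_apply, show σ₀ (ρ i) = pr (σ₀ i) from hσ₀ i, hβ]
  have hb : (σ' a).1 = k₀ := by
    show swap (σ₀ a).1 k₀ (σ₀ a).1 = k₀
    exact swap_apply_left _ _
  refine ⟨pp σ' * x * (pp σ')⁻¹, ?_, ?_, NE_conj σ' x, ?_, ?_, ?_⟩
  · rw [show pp σ' * x * (pp σ')⁻¹ * (pp σ' * x * (pp σ')⁻¹) = pp σ' * (x * x) * (pp σ')⁻¹ by group, hx]
    group
  · exact isConj_iff.mpr ⟨K.ι (pp σ'), by rw [← map_inv, ← map_mul, ← map_mul]⟩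
  all_goals rw [conj_pp]
  · intro i
    show x.v (σ'⁻¹ (pr i)) = x.v (σ'⁻¹ i)
    conv_lhs => rw [← app_inv σ' i, ← hal, inv_app]
    exact (hρ _).2.2.1
  · intro i
    show ((σ' * x.σ * σ'⁻¹) i).1 = i.1
    rw [Perm.mul_apply, Perm.mul_apply]
    by_cases h : x.σ (σ'⁻¹ i) = σ'⁻¹ i
    · rw [h, app_inv]
    · rw [← (hρ _).2.2.2 h, hal, app_inv, pr_fst]
  · show (σ' * x.σ * σ'⁻¹) (k₀, false) = (k₀, true)
    rw [Perm.mul_apply, Perm.mul_apply]
    have hk : x.σ (σ'⁻¹ (k₀, false)) ≠ σ'⁻¹ (k₀, false) := by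
      rcases eq_or_pr (show ((k₀, false) : I n).1 = (σ' a).1 from hb.symm) with e | e
      · rw [e, inv_app]; exact ha
      · rw [e, ← hal, inv_app, (hρ a).2.2.2 ha, hinv]; exact Ne.symm ha
    rw [← (hρ _).2.2.2 hk, hal, app_inv]
    rfl

/-- An involution with moved places is fused to one with more fixed vectors. -/
theorem descend (hn : 2 ≤ n) {x : W n} (hx : x * x = 1) (hσ : x.σ ≠ 1) (hpar : ∑ i, x.v i = 0) :
    ∃ y : W n, y * y = 1 ∧ K.Cj x y ∧ NE x < NE y := by
  classical
  set k₀ : Fin n := ⟨0, by omega⟩ with hk₀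
  obtain ⟨t', t'', hs', hs'', ht', ht'', T, hT, hχ⟩ := K.exists_pair k₀
  obtain ⟨x₁, hx₁, hxx₁, hNE₁, hv₁, hb₁, hsw₁⟩ := K.exists_aligned k₀ hx hσ hpar
  -- the permutations of the image preserve the first block
  have hblock : ∀ {y : W n}, y ∈ Cn t'' → y.σ * tk k₀ = tk k₀ * y.σ := fun hy => by
    have := (comm_iff.mp (mem_Cn.mp hy)).1
    rwa [hs''.1] at this
  have hQ₁ : InQ k₀ x₁ := ⟨fun i _ => hv₁ i, hb₁⟩
  have hχQ : InQ k₀ (ev (blk k₀)) := ⟨fun i _ => by simp only [ev_v, blk_pr], fun _ => rfl⟩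
  -- one of two conjugates fixes the first block
  obtain ⟨z, hzx, hz2, hzv, hzb, hzsw, hzfix⟩ : ∃ z : W n, K.Cj x₁ z ∧ z * z = 1 ∧ (∀ i, z.v (pr i) = z.v i) ∧
      BlockWise z.σ ∧ z.σ = x₁.σ ∧ (T.F z).σ (k₀, false) = (k₀, false) := by
    have hin : ∀ {y : W n}, y ∈ Cn t'' → (y.σ (k₀, false)).1 = ((k₀, false) : I n).1 := fun hy =>
      (block_of_comm (hblock hy) _).mpr rfl
    rcases eq_or_pr (hin (T.F_mem (InQ.mem_Cn hQ₁ hs'))) with e | e
    · exact ⟨x₁, IsConj.refl _, hx₁, hv₁, hb₁, rfl, e⟩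
    · set e₀ : W n := ev (eI (k₀, false))
      have e1 : e₀ * x₁ * e₀⁻¹ = ev (blk k₀) * x₁ := by
        have := delta_gen (eI (k₀, false)) hx₁
        rw [mul_inv_eq_iff_eq_mul] at this
        rw [this]
        refine congrArg (· * x₁) (congrArg ev (funext fun i => ?_))
        rw [blk_eq]
        congr 1
        simp only [eI]
        congr 1
        refine propext ⟨fun h => ?_, fun h => ?_⟩
        · rw [← hb₁.invol i, h, hsw₁]
        · rw [h, ← hsw₁, hb₁.invol]
      refine ⟨ev (blk k₀) * x₁, ?_, ?_, fun i => ?_, fun i => ?_, one_mul _, ?_⟩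
      · exact isConj_iff.mpr ⟨K.ι e₀, by rw [← map_inv, ← map_mul, ← map_mul, e1]⟩
      · rw [← e1, show e₀ * x₁ * e₀⁻¹ * (e₀ * x₁ * e₀⁻¹) = e₀ * (x₁ * x₁) * e₀⁻¹ by group, hx₁]
        group
      · simp only [mul_v, ev_v, ev_σ, inv_one, Perm.one_apply, hv₁, blk_pr]
      · rw [mul_σ, ev_σ, one_mul]; exact hb₁ i
      · rw [T.F_mul (InQ.mem_Cn hχQ hs') (InQ.mem_Cn hQ₁ hs'), mul_σ, Perm.mul_apply, e]
        have hc := Perm.ext_iff.mp (hblock (T.F_mem (InQ.mem_Cn hχQ hs'))) (k₀, false)
        rw [Perm.mul_apply, Perm.mul_apply, tk_apply, tk_apply, if_pos rfl, hχ, if_pos rfl] at hc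
        rw [hc]; rfl
  have hzQ : InQ k₀ z := ⟨fun i _ => hzv i, hzb⟩
  have hzC : z ∈ Cn t' := InQ.mem_Cn hzQ hs'
  set y := T.F z with hy
  have hyC : y ∈ Cn t'' := T.F_mem hzC
  have hy2 : y * y = 1 := by rw [hy, ← T.F_mul hzC hzC, hz2, T.F_one]
  refine ⟨y, hy2, hxx₁.trans (hzx.trans (hT z hzC hz2)), ?_⟩
  rw [← hNE₁, show NE x₁ = NE z from Nat.card_congr (Equiv.subtypeEquivRight fun u => by rw [hzsw])]
  -- the image of the abelian subgroup of `t'`
  set τ := tk k₀ with hτ
  have hττ : τ * τ = 1 := tk_tk k₀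
  have ht'A : InAS τ t' := ⟨fun i => hs'.v_tk k₀ i, fun i => Or.inr (by rw [hs'.1])⟩
  have hAC : ∀ a, InAS τ a → a ∈ Cn t' := fun a ha => mem_Cn.mpr (InAS.comm hττ ha ht'A)
  let M : Subgroup (W n) :=
    { carrier := {a | ∃ b, InAS τ b ∧ T.F b = a}
      one_mem' := ⟨1, ⟨fun _ => rfl, fun _ => Or.inl rfl⟩, T.F_one⟩
      mul_mem' := by
        rintro _ _ ⟨a, ha, rfl⟩ ⟨b, hb, rfl⟩
        exact ⟨a * b, InAS.mul hττ ha hb, T.F_mul (hAC a ha) (hAC b hb)⟩
      inv_mem' := by
        rintro _ ⟨a, ha, rfl⟩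
        exact ⟨a⁻¹, by rw [InAS.inv hττ ha]; exact ha, T.F_inv (hAC a ha)⟩ }
  obtain ⟨r, hr, hM⟩ : ∃ r : Perm (I n), r * r = 1 ∧ ∀ a, a ∈ M ↔ InAS r a := by
    refine exists_r M ?_ ?_ ?_
    · rintro _ ⟨a, ha, rfl⟩ _ ⟨b, hb, rfl⟩
      rw [← T.F_mul (hAC a ha) (hAC b hb), InAS.comm hττ ha hb, T.F_mul (hAC b hb) (hAC a ha)]
    · rintro _ ⟨a, ha, rfl⟩
      rw [← T.F_mul (hAC a ha) (hAC a ha), InAS.sq hττ ha, T.F_one]
    · let g : (I n → ZMod 2) → W n := fun u =>
        ⟨fun i => if i.1 = k₀ then u (k₀, false) else u i, if u (k₀, true) = 1 then τ else 1⟩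
      have hg : ∀ u, InAS τ (g u) := fun u => ⟨fun i => by
          show (if (τ i).1 = k₀ then _ else _) = if i.1 = k₀ then _ else _
          rw [hτ, tk_blockWise k₀ i]
          split_ifs with h
          · rfl
          · rw [tk_apply, if_neg h],
        fun i => by
          show (if u (k₀, true) = 1 then τ else 1) i = i ∨ (if u (k₀, true) = 1 then τ else 1) i = τ i
          split_ifs
          exacts [Or.inr rfl, Or.inl rfl]⟩
      refine le_of_eq_of_le ?_ (Nat.card_le_card_of_injective (fun u : I n → ZMod 2 =>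
        (⟨T.F (g u), g u, hg u, rfl⟩ : M)) fun a b h => ?_)
      · rw [Nat.card_fun, Nat.card_zmod, Nat.card_eq_fintype_card, Fintype.card_prod, Fintype.card_fin,
          Fintype.card_bool, mul_comm]
      · have e := T.F_inj (hAC _ (hg a)) (hAC _ (hg b)) (congrArg Subtype.val h)
        have e1 : (if a (k₀, true) = 1 then τ else 1) = if b (k₀, true) = 1 then τ else 1 := congrArg W.σ e
        have e2 := fun i => congrFun (congrArg W.v e) i
        funext i
        by_cases hi : i.1 = k₀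
        · rcases eq_or_pr (show i.1 = ((k₀, false) : I n).1 from hi) with rfl | rfl
          · simpa [g] using e2 (k₀, false)
          · show a (k₀, true) = b (k₀, true)
            have hτ1 : τ ≠ 1 := fun e => by
              have := Perm.ext_iff.mp e (k₀, false)
              rw [hτ, tk_apply, if_pos rfl, Perm.one_apply] at this
              exact pr_ne _ this
            rcases zmod_cases (a (k₀, true)) with u1 | u1 <;> rcases zmod_cases (b (k₀, true)) with u2 | u2 <;>
              simp [u1, u2, hτ1, Ne.symm hτ1] at e1 ⊢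
        · simpa [g, hi] using e2 i
  have rr := InAS.rr_apply hr
  have hzA : InAS τ (zW : W n) := ⟨fun _ => rfl, fun _ => Or.inl rfl⟩
  have ht''M : InAS r t'' := (hM _).mp ⟨zW, hzA, T.F_z⟩
  have hr₀ : ∀ i, i.1 = k₀ → r i = pr i := by
    intro i hi
    rcases ht''M.2 i with e | e
    · rw [hs''.1, tk_apply, if_pos hi] at e
      exact absurd e (pr_ne _)
    · rw [hs''.1, tk_apply, if_pos hi] at e
      exact e.symm
  have hclass : ∀ i, i.1 ≠ k₀ → r i ≠ i → ∀ k, k.1 ≠ k₀ → t''.v k = t''.v i → k = i ∨ k = r i := by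
    intro i hi0 hi k hk0 hk
    by_contra hc
    push Not at hc
    have hs : pp (swap i k) ∈ Cn t'' := by
      refine mem_Cn.mpr (comm_iff.mpr ⟨Perm.ext fun j => ?_, fun j => ?_⟩)
      · rw [pp_σ, hs''.1, Perm.mul_apply, Perm.mul_apply, tk_apply, tk_apply]
        rcases eq_or_ne j i with rfl | h1
        · rw [if_neg hi0, swap_apply_left, if_neg hk0]
        · rcases eq_or_ne j k with rfl | h2
          · rw [if_neg hk0, swap_apply_right, if_neg hi0]
          · rw [swap_apply_of_ne_of_ne h1 h2]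
            split_ifs with h
            · rw [swap_apply_of_ne_of_ne (fun e => hi0 (by rw [← e, pr_fst]; exact h))
                (fun e => hk0 (by rw [← e, pr_fst]; exact h))]
            · rw [swap_apply_of_ne_of_ne h1 h2]
      · simp only [pp_v, pp_σ, zero_add, add_zero, swap_inv]
        rcases eq_or_ne j i with rfl | h1
        · rw [swap_apply_left, hk]
        · rcases eq_or_ne j k with rfl | h2
          · rw [swap_apply_right, hk]
          · rw [swap_apply_of_ne_of_ne h1 h2]
    obtain ⟨x', hx', hx'e⟩ := T.F_surj hs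
    have hn' : InAS r (pp (swap i k) * pp r * (pp (swap i k))⁻¹) := by
      obtain ⟨b, hb, hbe⟩ := (hM _).mpr (InAS.pp r (σ := r) fun _ => Or.inr rfl)
      refine (hM _).mp ⟨x' * b * x'⁻¹, ?_, by rw [T.F_conj hx' (hAC b hb), hx'e, hbe]⟩
      have hx'τ : x'.σ * τ = τ * x'.σ := by
        have := (comm_iff.mp (mem_Cn.mp hx')).1
        rwa [hs'.1] at this
      have hbσ : b.σ = 1 ∨ b.σ = τ := by
        rcases hb.2 (k₀, false) with e | e
        · left
          refine Perm.ext fun j => ?_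
          rcases hb.2 j with e' | e'
          · exact e'
          · by_cases hj : j.1 = k₀
            · rcases eq_or_pr (show j.1 = ((k₀, false) : I n).1 from hj) with rfl | rfl
              · exact e
              · have h5 := InAS.agree hττ hb.2 (q := 1) (fun _ => Or.inl rfl) (i := (k₀, false)) e
                rw [hτ, tk_apply, if_pos rfl] at h5
                exact h5
            · rw [e', hτ, tk_apply, if_neg hj]; rfl
        · right
          refine Perm.ext fun j => ?_
          by_cases hj : j.1 = k₀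
          · rcases eq_or_pr (show j.1 = ((k₀, false) : I n).1 from hj) with rfl | rfl
            · exact e
            · have h5 := InAS.agree hττ hb.2 (q := τ) (fun _ => Or.inr rfl) (i := (k₀, false)) e
              rw [hτ, tk_apply, if_pos rfl] at h5
              exact h5
          · rcases hb.2 j with e' | e'
            · rw [e', hτ, tk_apply, if_neg hj]
            · exact e'
      constructor
      · intro j
        have hc' := mem_Cn.mp (mul_mem (mul_mem hx' (hAC b hb)) (inv_mem hx'))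
        have h3 := (comm_iff.mp hc').2 j
        rw [hs'.1] at h3
        have hconj : (x' * b * x'⁻¹).σ = b.σ := by
          rcases hbσ with e | e <;> rw [mul_σ, mul_σ, inv_σ, e]
          · rw [mul_one, mul_inv_cancel]
          · rw [hx'τ, mul_inv_cancel_right]
        rw [hconj, InAS.inv_eq hττ hb, (tk_blockWise k₀).inv, ← hτ] at h3
        rw [show t'.v (b.σ j) = t'.v j from by
          rcases hbσ with e | e <;> rw [e]
          · rfl
          · exact hs'.v_tk k₀ j, add_comm] at h3
        exact (add_left_cancel h3).symm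
      · intro j
        rcases hbσ with e | e <;> rw [mul_σ, mul_σ, inv_σ, e]
        · left; rw [mul_one, mul_inv_cancel]; rfl
        · right; rw [hx'τ, mul_inv_cancel_right]
    have h := hn'.2 k
    rw [conj_pp, pp_σ] at h
    simp only [Perm.mul_apply, swap_inv, swap_apply_right] at h
    rw [swap_apply_of_ne_of_ne hi (Ne.symm hc.2)] at h
    rcases h with h | h
    · exact hc.2 h.symm
    · exact hc.1 (r.injective h).symm
  have hout : ∀ i, i.1 ≠ k₀ → r i ≠ i → r i = pr i := by
    intro i hi0 hi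
    exact ((hclass i hi0 hi (pr i) (by rw [pr_fst]; exact hi0) (hs''.2 i)).resolve_left (pr_ne i)).symm
  -- elements of the centralisers keep the vector of the involution off the first block
  have hkeep : ∀ {t : W n}, Std k₀ t → ∀ {d : W n}, d ∈ Cn t → ∀ j : I n, j.1 ≠ k₀ →
      (d.σ⁻¹ j).1 ≠ k₀ ∧ t.v (d.σ⁻¹ j) = t.v j := by
    intro t hst d hd j hj
    obtain ⟨h1, h2⟩ := comm_iff.mp (mem_Cn.mp hd)
    rw [hst.1] at h1
    refine ⟨fun e => hj ?_, ?_⟩
    · have := (block_of_comm h1 (d.σ⁻¹ j)).mpr e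
      rwa [app_inv] at this
    · have h3 := h2 j
      rw [hst.1, (tk_blockWise k₀).inv, tk_apply, if_neg hj, add_comm (t.v j)] at h3
      exact add_left_cancel h3
  -- no pair of the image is moved
  have hfix : ∀ i, r i ≠ i → y.σ i = i := by
    intro i hi
    by_cases hi0 : i.1 = k₀
    · have hc := Perm.ext_iff.mp (hblock hyC) (k₀, false)
      rw [Perm.mul_apply, Perm.mul_apply, tk_apply, if_pos rfl, hzfix, tk_apply, if_pos rfl] at hc
      rcases eq_or_pr (show i.1 = ((k₀, false) : I n).1 from hi0) with rfl | rfl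
      · exact hzfix
      · exact hc
    have hri := hout i hi0 hi
    have hyi : y.σ⁻¹ = y.σ := inv_eq_of_mul_eq_one_right (congrArg W.σ hy2 : y.σ * y.σ = 1)
    obtain ⟨h1, h2⟩ := hkeep hs'' hyC i hi0
    rw [hyi] at h1 h2
    rcases hclass i hi0 hi _ h1 h2 with h3 | h3
    · exact h3
    exfalso
    rw [hri] at h3
    -- the vector of the pair
    set w : I n → ZMod 2 := blk i.1 with hw
    have hwe : ev (eI i) * y * (ev (eI i))⁻¹ * y⁻¹ = ev w := by
      rw [delta_gen _ hy2]
      refine congrArg ev (funext fun j => ?_)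
      simp only [hw, blk, eI]
      by_cases hj : j.1 = i.1
      · rcases eq_or_pr hj with rfl | rfl
        · rw [if_pos rfl, if_pos rfl, h3, if_neg (pr_ne _), add_zero]
        · have h4 : y.σ (pr i) = i := by rw [← h3, ← Perm.mul_apply, show y.σ * y.σ = 1 from congrArg W.σ hy2]; rfl
          rw [if_neg (pr_ne _), h4, if_pos rfl, if_pos hj, zero_add]
      · rw [if_neg hj, if_neg (fun e => hj (by rw [e])), if_neg, zero_add]
        intro e
        refine hj ?_
        have : j = y.σ i := by rw [← e, ← Perm.mul_apply, show y.σ * y.σ = 1 from congrArg W.σ hy2]; rfl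
        rw [this, h3, pr_fst]
    have hwcen : ∀ d ∈ Cn t'', d * ev w = ev w * d := by
      intro d hd
      refine comm_ev_iff.mpr fun j => ?_
      have hback : ∀ k : I n, k.1 = i.1 → (d.σ⁻¹ k).1 = (d.σ⁻¹ i).1 := by
        intro k hk
        obtain ⟨h4, h5⟩ := hkeep hs'' hd i hi0
        obtain ⟨h6, h7⟩ := hkeep hs'' hd k (hk ▸ hi0)
        rcases eq_or_pr hk with rfl | rfl
        · rfl
        · rw [hs''.2, ← h5] at h7
          have hmov : r (d.σ⁻¹ i) ≠ d.σ⁻¹ i → _ := fun h => hclass _ h4 h _ h6 h7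
          by_cases hm : r (d.σ⁻¹ i) = d.σ⁻¹ i
          · exfalso
            have hcl : ∀ k : I n, k.1 ≠ k₀ → t''.v k = t''.v i → k = i ∨ k = r i := hclass i hi0 hi
            rcases hcl _ h4 (by rw [hkeep hs'' hd i hi0 |>.2]) with e | e
            · rw [e] at hm; exact hi hm
            · rw [e, rr] at hm; exact hi hm.symm
          · rcases hmov hm with e | e
            · exact absurd (d.σ⁻¹.injective e) (pr_ne _)
            · rw [e, hout _ h4 hm, pr_fst]
      have hmem : ∀ k : I n, k.1 = i.1 → (d.σ⁻¹ k).1 = i.1 := by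
        intro k hk
        rw [hback k hk]
        obtain ⟨h4, h5⟩ := hkeep hs'' hd i hi0
        rcases hclass i hi0 hi _ h4 h5 with e | e
        · rw [e]
        · rw [e, hri, pr_fst]
      simp only [hw, blk]
      by_cases hj : j.1 = i.1
      · rw [if_pos hj, if_pos]
        -- the block is a union of images
        have a1 := hmem i rfl
        have a2 := hmem (pr i) (pr_fst i)
        obtain ⟨k, hk, hkj⟩ : ∃ k, k.1 = i.1 ∧ d.σ⁻¹ k = j := by
          rcases eq_or_pr a1 with e | e <;> rcases eq_or_pr a2 with e' | e' <;> rcases eq_or_pr hj with rfl | rfl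
          · exact ⟨_, rfl, e⟩
          · exact absurd (d.σ⁻¹.injective (e'.trans e.symm)) (pr_ne _)
          · exact ⟨_, rfl, e⟩
          · exact ⟨_, pr_fst i, e'⟩
          · exact ⟨_, pr_fst j, e'⟩
          · exact ⟨_, rfl, e⟩
          · exact absurd (d.σ⁻¹.injective (e'.trans e.symm)) (pr_ne _)
          · exact ⟨_, rfl, e⟩
        rw [← hkj, app_inv, hk]
      · rw [if_neg hj, if_neg]
        intro e
        have := hmem _ e
        rw [inv_app] at this
        exact hj this
    have hwC : ev w ∈ Cn t'' := mem_Cn.mpr (hwcen _ (self_mem _)).symm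
    have heC : ev (eI i) ∈ Cn t'' := mem_Cn.mpr ((comm_ev_iff.mpr fun j => by
      rw [hs''.1, tk_apply]
      split_ifs with h
      · rw [eI_ne (fun e => hi0 (by rw [← e, pr_fst]; exact h)), eI_ne (fun e => hi0 (by rw [← e]; exact h))]
      · rfl).symm)
    obtain ⟨a, ha, hae⟩ := T.F_surj heC
    set u := a * z * a⁻¹ * z⁻¹ with hu
    have huC : u ∈ Cn t' := mul_mem (mul_mem (mul_mem ha hzC) (inv_mem ha)) (inv_mem hzC)
    have hFu : T.F u = ev w := by
      rw [hu, T.F_mul (mul_mem (mul_mem ha hzC) (inv_mem ha)) (inv_mem hzC), T.F_conj ha hzC, T.F_inv hzC, hae,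
        ← hy, hwe]
    have hucen : ∀ d, InQ k₀ d → u * d = d * u := fun d hd => by
      have hdC := InQ.mem_Cn hd hs'
      refine T.F_inj (mul_mem huC hdC) (mul_mem hdC huC) ?_
      rw [T.F_mul huC hdC, T.F_mul hdC huC, hFu, hwcen _ (T.F_mem hdC)]
    obtain ⟨hub, huσ⟩ := cen hucen
    -- the first block is untouched by a commutator
    have hτc : ∀ {d : W n}, d ∈ Cn t' → d.σ * tk k₀ = tk k₀ * d.σ := fun hd => by
      have := (comm_iff.mp (mem_Cn.mp hd)).1
      rwa [hs'.1] at this
    have hv0 : ∀ {d : W n}, d ∈ Cn t' → ∀ j, j.1 = k₀ → d.v j = d.v (k₀, false) := by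
      intro d hd j hj
      rcases eq_or_pr (show j.1 = ((k₀, false) : I n).1 from hj) with rfl | rfl
      · rfl
      · have h2 := (comm_iff.mp (mem_Cn.mp hd)).2 (k₀, false)
        rw [hs'.1, (tk_blockWise k₀).inv, tk_apply, if_pos rfl] at h2
        have hb : (d.σ⁻¹ (k₀, false)).1 = ((k₀, false) : I n).1 :=
          (block_of_comm (hτc hd) _).mp (by rw [app_inv])
        rw [show t'.v (d.σ⁻¹ (k₀, false)) = t'.v (k₀, false) from by
          rcases eq_or_pr hb with e | e <;> rw [e]
          exact hs'.2 _, add_comm] at h2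
        exact (add_left_cancel h2).symm
    have hmul0 : ∀ {c d : W n}, c ∈ Cn t' → d ∈ Cn t' →
        (c * d).v (k₀, false) = c.v (k₀, false) + d.v (k₀, false) := fun {c d} hc hd => by
      rw [mul_v, hv0 hd _ ((block_of_comm (hτc hc) _).mp (by rw [app_inv]))]
    have hinv0 : ∀ {c : W n}, c ∈ Cn t' → (c⁻¹).v (k₀, false) = c.v (k₀, false) := fun {c} hc => by
      rw [inv_v, hv0 hc _ ((block_of_comm (hτc hc) _).mpr rfl)]
    have hu0 : u.v (k₀, false) = 0 := by
      rw [hu, hmul0 (mul_mem (mul_mem ha hzC) (inv_mem ha)) (inv_mem hzC), hmul0 (mul_mem ha hzC) (inv_mem ha),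
        hmul0 ha hzC, hinv0 ha, hinv0 hzC]
      rcases zmod_cases (a.v (k₀, false)) with p | p <;> rcases zmod_cases (z.v (k₀, false)) with q | q <;>
        rw [p, q] <;> rfl
    have hu1 : u.σ = 1 := by
      refine huσ.resolve_right fun e => ?_
      have h4 := Perm.ext_iff.mp e (k₀, false)
      rw [tk_apply, if_pos rfl] at h4
      have hB : ∀ {d : W n}, d ∈ Cn t' → d.σ (pr (k₀, false)) = pr (d.σ (k₀, false)) := fun {d} hd => by
        have h5 := Perm.ext_iff.mp (hτc hd) (k₀, false)
        rw [Perm.mul_apply, Perm.mul_apply, tk_apply, if_pos rfl, tk_apply,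
          if_pos ((block_of_comm (hτc hd) _).mpr rfl)] at h5
        exact h5
      have hin : ∀ {d : W n}, d ∈ Cn t' → (d.σ (k₀, false)).1 = ((k₀, false) : I n).1 := fun hd =>
        (block_of_comm (hτc hd) _).mpr rfl
      have key : (a * z).σ (k₀, false) = (z * a).σ (k₀, false) := by
        rw [mul_σ, mul_σ, Perm.mul_apply, Perm.mul_apply]
        rcases eq_or_pr (hin ha) with p | p <;> rcases eq_or_pr (hin hzC) with q | q
        · rw [q, p, q]
        · rw [q, hB ha, p, q]
        · rw [q, p, hB hzC, q]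
        · rw [q, hB ha, p, hB hzC, q]
      have hza : z * a ∈ Cn t' := mul_mem hzC ha
      have h6 : u.σ ((z * a).σ (k₀, false)) = (a * z).σ (k₀, false) := by
        rw [← Perm.mul_apply, ← mul_σ, show u * (z * a) = a * z by rw [hu]; group]
      rw [key, e, tk_apply, if_pos (hin hza)] at h6
      exact pr_ne _ h6
    have huu : u * u = 1 := by
      rw [eq_ev hu1, ev_mul]; exact (congrArg ev (funext fun _ => two_self _)).trans ev_zero
    have hcj : K.Cj (ev u.v) (ev w) := by
      rw [← eq_ev hu1, ← hFu]; exact hT u huC huu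
    have hwv : ∀ j, w (pr j) = w j := fun j => by simp only [hw, blk_pr]
    have hwt := K.wt_eq hn (sum_pr hub) (sum_pr hwv) hcj
    have hwt2 : wt w = 2 := by
      rw [wt, show Finset.univ.filter (fun j => w j = 1) = {i, pr i} from ?_, Finset.card_pair (Ne.symm (pr_ne i))]
      ext j
      simp only [hw, blk, Finset.mem_filter, Finset.mem_univ, true_and, Finset.mem_insert, Finset.mem_singleton]
      by_cases hj : j.1 = i.1
      · rw [if_pos hj]; exact ⟨fun _ => eq_or_pr hj, fun _ => rfl⟩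
      · rw [if_neg hj]
        refine ⟨fun h => absurd h zero_ne_one, ?_⟩
        rintro (rfl | rfl)
        · exact absurd rfl hj
        · exact absurd (pr_fst i) hj
    rw [hwt2] at hwt
    obtain ⟨p, hp⟩ : ∃ p, u.v p = 1 := by
      by_contra hc
      push Not at hc
      rw [wt, Finset.filter_false_of_mem fun j _ => hc j] at hwt
      simp at hwt
    have hsupp : ∀ j, u.v j = 1 → j.1 = p.1 := by
      intro j hj
      by_contra hne
      have hsub : ({p, pr p, j} : Finset (I n)) ⊆ Finset.univ.filter fun q => u.v q = 1 := by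
        intro q hq
        simp only [Finset.mem_insert, Finset.mem_singleton] at hq
        refine Finset.mem_filter.mpr ⟨Finset.mem_univ _, ?_⟩
        rcases hq with rfl | rfl | rfl
        exacts [hp, (hub p).trans hp, hj]
      have h7 := Finset.card_le_card hsub
      rw [show (Finset.univ.filter fun q => u.v q = 1).card = 2 from hwt] at h7
      rw [Finset.card_insert_of_notMem, Finset.card_pair] at h7
      · omega
      · intro e; exact hne (by rw [← e, pr_fst])
      · simp only [Finset.mem_insert, Finset.mem_singleton]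
        rintro (e | e)
        · exact pr_ne p e.symm
        · exact hne (by rw [← e])
    have hp0 : p.1 ≠ k₀ := by
      intro e
      have := hv0 huC p e
      rw [hp, hu0] at this
      exact one_ne_zero this
    have hK : ∀ j : I n, j.1 ≠ k₀ → t'.v j = t'.v p → j.1 = p.1 := by
      intro j hj0 hj
      by_contra hne
      have hjp : j ≠ p := fun e => hne (by rw [e])
      have hs : pp (swap p j) ∈ Cn t' := by
        refine mem_Cn.mpr (comm_iff.mpr ⟨Perm.ext fun q => ?_, fun q => ?_⟩)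
        · rw [pp_σ, hs'.1, Perm.mul_apply, Perm.mul_apply, tk_apply, tk_apply]
          rcases eq_or_ne q p with rfl | h4
          · rw [if_neg hp0, swap_apply_left, if_neg hj0]
          · rcases eq_or_ne q j with rfl | h5
            · rw [if_neg hj0, swap_apply_right, if_neg hp0]
            · rw [swap_apply_of_ne_of_ne h4 h5]
              split_ifs with h
              · rw [swap_apply_of_ne_of_ne (fun e => hp0 (by rw [← e, pr_fst]; exact h))
                  (fun e => hj0 (by rw [← e, pr_fst]; exact h))]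
              · rw [swap_apply_of_ne_of_ne h4 h5]
        · simp only [pp_v, pp_σ, zero_add, add_zero, swap_inv]
          rcases eq_or_ne q p with rfl | h4
          · rw [swap_apply_left, hj]
          · rcases eq_or_ne q j with rfl | h5
            · rw [swap_apply_right, hj]
            · rw [swap_apply_of_ne_of_ne h4 h5]
      have hcomm : pp (swap p j) * ev u.v = ev u.v * pp (swap p j) := by
        rw [← eq_ev hu1]
        refine T.F_inj (mul_mem hs huC) (mul_mem huC hs) ?_
        rw [T.F_mul hs huC, T.F_mul huC hs, hFu, hwcen _ (T.F_mem hs)]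
      have h8 := comm_ev_iff.mp hcomm p
      rw [pp_σ, swap_apply_left, hp] at h8
      exact hne (hsupp j h8)
    by_cases hzp : z.σ p = p
    · -- no commutator reaches the block
      have h9 : ∀ q : I n, q.1 = p.1 → z.σ q = q ∧ z.v q = z.v p := by
        intro q hq
        rcases eq_or_pr hq with rfl | rfl
        · exact ⟨hzp, rfl⟩
        · exact ⟨by rw [hzb.pr, hzp], hzv p⟩
      have hA : (a.σ⁻¹ p).1 = p.1 := by
        obtain ⟨h10, h11⟩ := hkeep hs' ha p hp0
        exact hK _ h10 h11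
      have h12 : (u * (z * a)).v p = (a * z).v p := by
        rw [show u * (z * a) = a * z by rw [hu]; group]
      simp only [mul_v, hu1, inv_one, Perm.one_apply, hzb.inv, hzp, hp, (h9 _ hA).2] at h12
      revert h12
      rcases zmod_cases (z.v p) with q | q <;> rcases zmod_cases (a.v p) with q' | q' <;> rw [q, q'] <;> decide
    · -- the commutator comes from the abelian subgroup
      have hzp' : z.σ p = pr p := (eq_or_pr (hzb p)).resolve_left hzp
      have hue : ev (eI p) * z * (ev (eI p))⁻¹ * z⁻¹ = u := by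
        rw [delta_gen _ hz2, eq_ev hu1]
        refine congrArg ev (funext fun q => ?_)
        have hq' : z.σ q = p ↔ q = pr p :=
          ⟨fun e => by rw [← hzb.invol q, e, hzp'], fun e => by rw [e, ← hzp', hzb.invol]⟩
        simp only [eI, hq']
        rcases zmod_cases (u.v q) with e | e
        · rw [e, if_neg (fun h => by rw [h, hp] at e; exact one_ne_zero e),
            if_neg (fun h => by rw [h, hub, hp] at e; exact one_ne_zero e), add_zero]
        · rcases eq_or_pr (hsupp q e) with rfl | rfl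
          · rw [if_pos rfl, if_neg (Ne.symm (pr_ne _)), e, add_zero]
          · rw [if_neg (pr_ne _), if_pos rfl, e, zero_add]
      have hpA : InAS τ (ev (eI p)) := InAS.ev τ fun q => by
        rw [hτ, tk_apply]
        split_ifs with h
        · rw [eI_ne (fun e => hp0 (by rw [← e, pr_fst]; exact h)), eI_ne (fun e => hp0 (by rw [← e]; exact h))]
        · rfl
      set m := T.F (ev (eI p)) with hm
      have hmM : InAS r m := (hM _).mp ⟨_, hpA, rfl⟩
      have hFu' : m * y * m⁻¹ * y⁻¹ = ev w := by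
        rw [← hFu, ← hue, T.F_mul (mul_mem (mul_mem (hAC _ hpA) hzC) (inv_mem (hAC _ hpA))) (inv_mem hzC),
          T.F_conj (hAC _ hpA) hzC, T.F_inv hzC]
      rw [InAS.inv hr hmM, inv_eq_of_mul_eq_one_right hy2] at hFu'
      have h13 := congrFun (congrArg W.v hFu') i
      simp only [mul_v, mul_σ, mul_inv_rev, Perm.mul_apply, hyi, InAS.inv_eq hr hmM, ev_v, hw, blk, if_true] at h13
      have hyw : ∀ j, y.v (y.σ j) = y.v j := (sq_iff.mp hy2).2
      have hP : ∀ q : I n, q = i ∨ q = pr i → y.v q = y.v i ∧ m.v q = m.v i ∧ (m.σ q = i ∨ m.σ q = pr i) ∧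
          (y.σ q = i ∨ y.σ q = pr i) := by
        rintro q (rfl | rfl)
        · refine ⟨rfl, rfl, ?_, Or.inr h3⟩
          rcases hmM.2 q with e | e <;> rw [e]
          exacts [Or.inl rfl, Or.inr hri]
        · refine ⟨by rw [← h3, hyw], by rw [← hri, hmM.1], ?_, Or.inl ?_⟩
          · rcases hmM.2 (pr i) with e | e <;> rw [e]
            · exact Or.inr rfl
            · rw [← hri, rr]; exact Or.inl rfl
          · rw [← h3, ← Perm.mul_apply, show y.σ * y.σ = 1 from congrArg W.σ hy2]; rfl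
      obtain ⟨-, -, hA, -⟩ := hP i (Or.inl rfl)
      obtain ⟨a1, -, -, hB⟩ := hP _ hA
      obtain ⟨-, b2, hC, -⟩ := hP _ hB
      obtain ⟨c1, -, -, -⟩ := hP _ hC
      rw [a1, b2, c1] at h13
      revert h13
      rcases zmod_cases (m.v i) with q | q <;> rcases zmod_cases (y.v i) with q' | q' <;> rw [q, q'] <;> decide
  -- comparing the fixed vectors
  let CA := {a : W n // InAS τ a ∧ a * z = z * a}
  let CM := {a : W n // InAS r a ∧ a * y = y * a}
  have h1 : 2 * NE z ≤ Nat.card CA := by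
    rw [NE, show 2 * Nat.card {u : I n → ZMod 2 // ∀ i, u (z.σ i) = u i} =
      Nat.card (Bool × {u : I n → ZMod 2 // ∀ i, u (z.σ i) = u i}) by
        rw [Nat.card_prod, Nat.card_eq_fintype_card (α := Bool), Fintype.card_bool]]
    have hc : ∀ u : I n → ZMod 2, (∀ i, u (z.σ i) = u i) → ∀ i, u (τ i) = u i := by
      intro u hu i
      rw [hτ, tk_apply]
      split_ifs with h
      · rcases eq_or_pr (show i.1 = ((k₀, false) : I n).1 from h) with rfl | rfl
        · rw [show pr (k₀, false) = z.σ (k₀, false) by rw [hzsw, hsw₁]; rfl, hu]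
        · rw [pr_pr, show pr (k₀, false) = z.σ (k₀, false) by rw [hzsw, hsw₁]; rfl, hu]
      · rfl
    refine Nat.card_le_card_of_injective (fun p => (⟨⟨p.2.1, if p.1 then τ else 1⟩, ⟨hc _ p.2.2, fun i => ?_⟩,
      comm_iff.mpr ⟨?_, fun i => ?_⟩⟩ : CA)) ?_
    · cases p.1
      exacts [Or.inl rfl, Or.inr rfl]
    · cases p.1
      exacts [by simp, (hzb.comm_tk k₀).symm]
    · show p.2.1 i + z.v ((if p.1 then τ else 1)⁻¹ i) = z.v i + p.2.1 (z.σ⁻¹ i)
      rw [hzb.inv, p.2.2 i, add_comm]
      congr 1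
      cases p.1
      · simp
      · simp only [if_true, hτ, (tk_blockWise k₀).inv]
        exact hzQ.v_tk i
    · intro p q h
      have e := congrArg (fun c : CA => c.1) h
      refine Prod.ext ?_ (Subtype.ext (congrArg W.v e))
      have e' : (if p.1 then τ else 1) = if q.1 then τ else 1 := congrArg W.σ e
      have hτ1 : τ ≠ 1 := fun e => by
        have := Perm.ext_iff.mp e (k₀, false)
        rw [hτ, tk_apply, if_pos rfl, Perm.one_apply] at this
        exact pr_ne _ this
      cases hp : p.1 <;> cases hq : q.1 <;> simp [hp, hq, hτ1, Ne.symm hτ1] at e' ⊢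
  have h2 : Nat.card CA ≤ Nat.card CM := by
    refine Nat.card_le_card_of_injective (fun a => (⟨T.F a.1, (hM _).mp ⟨a.1, a.2.1, rfl⟩, by
      rw [hy, ← T.F_mul (hAC _ a.2.1) hzC, a.2.2, T.F_mul hzC (hAC _ a.2.1)]⟩ : CM)) fun a b h => ?_
    exact Subtype.ext (T.F_inj (hAC _ a.2.1) (hAC _ b.2.1) (congrArg Subtype.val h))
  have h3 : Nat.card CM ≤ NE y := by
    have hyi : y.σ⁻¹ = y.σ := inv_eq_of_mul_eq_one_right (congrArg W.σ hy2 : y.σ * y.σ = 1)
    refine Nat.card_le_card_of_injective (fun a =>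
      (⟨fun i => a.1.v i + if a.1.σ i ≠ i ∧ idx i < idx (r i) then 1 else 0, fun i => ?_⟩ :
        {u : I n → ZMod 2 // ∀ i, u (y.σ i) = u i})) ?_
    · by_cases hi : r i = i
      · have hi' : r (y.σ i) = y.σ i := by
          by_contra hne
          exact hne (by rw [y.σ.injective (hfix _ hne)]; exact hi)
        have ha1 : a.1.σ i = i := (a.2.1.2 i).elim id fun e => e.trans hi
        have ha2 : a.1.σ (y.σ i) = y.σ i := (a.2.1.2 _).elim id fun e => e.trans hi'
        have hc := (comm_iff.mp a.2.2).2 i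
        rw [InAS.inv_eq hr a.2.1, ha1, hyi, add_comm] at hc
        simp only [ha1, ha2, ne_eq, not_true, false_and, if_false, add_zero]
        exact (add_left_cancel hc).symm
      · rw [hfix i hi]
    · intro a b hab
      have hab' : ∀ i, (a.1.v i + if a.1.σ i ≠ i ∧ idx i < idx (r i) then (1 : ZMod 2) else 0) =
          b.1.v i + if b.1.σ i ≠ i ∧ idx i < idx (r i) then 1 else 0 := fun i =>
        congrFun (congrArg Subtype.val hab) i
      have hv : a.1.v = b.1.v := by
        funext i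
        rcases lt_or_ge (idx i) (idx (r i)) with l | l
        · have := hab' (r i)
          rw [if_neg (fun h => absurd h.2 (by rw [rr]; omega)), if_neg (fun h => absurd h.2 (by rw [rr]; omega)),
            add_zero, add_zero, a.2.1.1, b.2.1.1] at this
          exact this
        · have := hab' i
          rwa [if_neg (fun h => absurd h.2 (by omega)), if_neg (fun h => absurd h.2 (by omega)), add_zero,
            add_zero] at this
      have hmove : ∀ i, idx i < idx (r i) → a.1.σ i = b.1.σ i := by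
        intro i l
        have := hab' i
        rw [hv] at this
        have h' := add_left_cancel this
        rcases a.2.1.2 i with e | e <;> rcases b.2.1.2 i with e' | e'
        · rw [e, e']
        · rw [if_neg (fun h => h.1 e), if_pos ⟨by rw [e']; exact fun h => absurd (congrArg idx h) (by omega), l⟩] at h'
          exact absurd h' zero_ne_one
        · rw [if_pos ⟨by rw [e]; exact fun h => absurd (congrArg idx h) (by omega), l⟩, if_neg (fun h => h.1 e')] at h'
          exact absurd h' one_ne_zero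
        · rw [e, e']
      refine Subtype.ext (W.ext hv (Perm.ext fun i => ?_))
      rcases lt_trichotomy (idx i) (idx (r i)) with l | l | l
      · exact hmove i l
      · have : r i = i := (idx_inj l).symm
        rw [(a.2.1.2 i).elim id fun e => e.trans this, (b.2.1.2 i).elim id fun e => e.trans this]
      · have := InAS.agree hr a.2.1.2 b.2.1.2 (hmove (r i) (by rwa [rr]))
        rwa [rr] at this
  have hpos : 1 ≤ NE z := by
    have : Nonempty {u : I n → ZMod 2 // ∀ i, u (z.σ i) = u i} := ⟨⟨0, fun _ => rfl⟩⟩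
    exact Nat.card_pos
  omega

/-- Every involution is fused to an even vector. -/
theorem exists_vector (hn : 2 ≤ n) {x : W n} (hx : x * x = 1) :
    ∃ v : I n → ZMod 2, ∑ i, v i = 0 ∧ K.Cj x (ev v) := by
  induction h : 2 ^ (2 * n) - NE x using Nat.strong_induction_on generalizing x with
  | _ k ih =>
    obtain ⟨y, hy, hpar, hxy, hNE⟩ := K.exists_even hn hx
    by_cases hσ : y.σ = 1
    · exact ⟨y.v, hpar, by rw [← eq_ev hσ]; exact hxy⟩
    · obtain ⟨w, hw, hyw, hlt⟩ := K.descend hn hy hσ hpar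
      have hle : NE w ≤ 2 ^ (2 * n) := by
        refine le_of_le_of_eq (Nat.card_le_card_of_injective _ Subtype.val_injective) ?_
        rw [Nat.card_fun, Nat.card_zmod, Nat.card_eq_fintype_card, Fintype.card_prod, Fintype.card_fin,
          Fintype.card_bool, mul_comm]
      obtain ⟨v, hv, hwv⟩ := ih (2 ^ (2 * n) - NE w) (by omega) hw rfl
      exact ⟨v, hv, hxy.trans (hyw.trans hwv)⟩

end Ctx

end CfsgLib.AltCentClasses
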