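import Cfsg.Agent.Lib.AltCentClasses.Ctx

/-!
Fusion of the vectors: the conjugates of the central involution among them, and weights.
-/

set_option autoImplicit false
set_option linter.unusedSimpArgs false
set_option linter.unusedSectionVars false
set_option linter.style.haveILetI false

namespace CfsgLib.AltCentClasses

open Equiv Subgroup

variable {n : ℕ} {G : Type*} [Group G] [Finite G]

/-- The parity as a sign. -/
noncomputable def parSign : W n →* ℤˣ where
  toFun x := if ∑ i, x.v i = 0 then 1 else -1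
  map_one' := if_pos (Finset.sum_eq_zero fun i _ => one_v i)
  map_mul' x y := by
    have e : ∑ i, (x * y).v i = ∑ i, x.v i + ∑ i, y.v i := by
      rw [← par_eq, map_mul, toAdd_mul, par_eq, par_eq]
    rw [e]
    rcases zmod_cases (∑ i, x.v i) with a | a <;> rcases zmod_cases (∑ i, y.v i) with b | b <;>
      rw [a, b] <;> simp [show (1 : ZMod 2) + 1 = 0 from rfl]

/-- A Sylow subgroup through a large part of a centraliser. -/
theorem exists_sylow_cent (u : W n) (Q₀ : Subgroup (W n)) (hp : IsPGroup 2 Q₀) (hle : Q₀ ≤ Cn u) :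
    ∃ S : Sylow 2 (W n), Q₀ ≤ Cn u ⊓ S ∧
      ∀ Q : Subgroup (W n), IsPGroup 2 Q → Q ≤ Cn u → Nat.card Q ≤ Nat.card (Cn u ⊓ S : Subgroup (W n)) := by
  haveI : Fact (Nat.Prime 2) := ⟨Nat.prime_two⟩
  obtain ⟨R, hR⟩ := (show IsPGroup 2 (Q₀.subgroupOf (Cn u)) from hp.comap_subtype).exists_le_sylow
  obtain ⟨S, hS⟩ := (R.2.map (Cn u).subtype).exists_le_sylow
  have hR' : (R : Subgroup (Cn u)).map (Cn u).subtype ≤ Cn u ⊓ S := le_inf (map_subtype_le _) hS
  refine ⟨S, fun a ha => hR' ⟨⟨a, hle ha⟩, hR ha, rfl⟩, fun Q hQ hQu => ?_⟩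
  obtain ⟨R', hR''⟩ := (show IsPGroup 2 (Q.subgroupOf (Cn u)) from hQ.comap_subtype).exists_le_sylow
  have h1 := card_le_of_le hR''
  rw [Nat.card_congr (subgroupOfEquivOfLe hQu).toEquiv] at h1
  have h2 := card_le_of_le hR'
  rw [Subgroup.card_map_of_injective (Cn u).subtype_injective] at h2
  have h3 : Nat.card R' = Nat.card R := by rw [R'.card_eq_multiplicity, R.card_eq_multiplicity]
  change Nat.card R ≤ _ at h2
  change _ ≤ Nat.card R' at h1
  omega

theorem eI_sum (j : I n) : ∑ i, eI j i = 1 := by simp [eI]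

theorem sum_one : ∑ _i : I n, (1 : ZMod 2) = 0 := by
  rw [Finset.sum_const, Finset.card_univ, nsmul_eq_mul, mul_one, card_I_zero]

/-- The weight. -/
noncomputable def wt (v : I n → ZMod 2) : ℕ := (Finset.univ.filter fun i => v i = 1).card

theorem conj_of_wt {v w : I n → ZMod 2} (h : wt v = wt w) : ∃ σ : Perm (I n), ∀ i, w (σ i) = v i := by
  classical
  have e : {i // v i = 1} ≃ {i // w i = 1} :=
    Fintype.equivOfCardEq (by rw [Fintype.card_subtype, Fintype.card_subtype]; exact h)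
  refine ⟨e.extendSubtype, fun i => ?_⟩
  rcases zmod_cases (v i) with a | a
  · rw [a]
    exact (zmod_cases _).resolve_right (e.extendSubtype_not_mem i (by rw [a]; exact zero_ne_one))
  · rw [a]
    exact e.extendSubtype_mem i a

namespace Ctx

variable (K : Ctx G n)

include K in
theorem conj_perm (v : I n → ZMod 2) (σ : Perm (I n)) : K.Cj (ev v) (ev fun i => v (σ i)) := by
  refine isConj_iff.mpr ⟨K.ι (pp σ⁻¹), ?_⟩
  rw [← map_inv, ← map_mul, ← map_mul, conj_ev, pp_σ, inv_inv]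

theorem cj_of_wt {v w : I n → ZMod 2} (h : wt v = wt w) : K.Cj (ev v) (ev w) := by
  obtain ⟨σ, hσ⟩ := conj_of_wt h
  have := K.conj_perm w σ
  rw [show (fun i => w (σ i)) = v from funext hσ] at this
  exact this.symm

/-- Some odd vector is fused to the central involution. -/
theorem exists_odd (k₀ : Fin n) : ∃ v : I n → ZMod 2, ∑ i, v i = 1 ∧ IsConj K.t (K.ι (ev v)) := by
  classical
  set u : W n := ev (eI (k₀, false))
  let E : Subgroup (W n) :=
    { carrier := {x | x.σ = 1}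
      one_mem' := rfl
      mul_mem' := fun {a b} ha hb => by
        show (a * b).σ = 1
        rw [mul_σ, show a.σ = 1 from ha, show b.σ = 1 from hb, one_mul]
      inv_mem' := fun {a} ha => by
        show (a⁻¹).σ = 1
        rw [inv_σ, show a.σ = 1 from ha, inv_one] }
  have hE : ∀ x ∈ E, x * x = 1 := fun x hx => by
    rw [eq_ev hx, ev_mul]
    exact (congrArg ev (funext fun _ => two_self _)).trans ev_zero
  obtain ⟨S, hS, hmax⟩ := exists_sylow_cent u E
    (fun x => ⟨1, Subtype.ext (by rw [pow_one, pow_two]; exact hE x x.2)⟩)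
    (fun x hx => mem_Cn.mpr (by rw [eq_ev hx]; exact comm_ev_ev _ _))
  obtain ⟨x, -, hxz, hxt, hxc⟩ := K.exists_central_conj (u := u) (hE u rfl) S (hS (show u ∈ E from rfl)).2 hmax
    parSign (if_neg (by rw [show u.v = eI (k₀, false) from rfl, eI_sum]; exact one_ne_zero))
  have hσ : x.σ = 1 := Perm.ext fun i => fix_of_comm_eI (hxc _ (hS (show ev (eI i) ∈ E from rfl)))
  rw [eq_ev hσ] at hxt
  refine ⟨x.v, (K.odd_of_conj hxt).resolve_right fun e => hxz ?_, hxt⟩
  rw [eq_ev hσ, e]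

/-- A conjugate of the vectors in the centraliser gives vectors. -/
theorem weak (hn : 2 ≤ n) {g : G} (h : ∀ u, g * K.ι (ev u) * g⁻¹ ∈ K.C) (u : I n → ZMod 2) :
    (K.η ⟨_, h u⟩).σ = 1 := by
  have htt : K.t * K.t = 1 := by rw [← K.ι_z, ← map_mul, z_sq, map_one]
  set s := g⁻¹ * K.t * g with hs
  have hsc : ∀ w, K.ι (ev w) * s = s * K.ι (ev w) := by
    intro w
    have := K.mem_C.mp (h w)
    calc K.ι (ev w) * s = g⁻¹ * (g * K.ι (ev w) * g⁻¹ * K.t) * g := by rw [hs]; group
      _ = _ := by rw [this, hs]; group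
  have hsC : s ∈ K.C := K.mem_C.mpr (by rw [← K.ι_z]; exact (hsc _).symm)
  have hss : s * s = 1 := by
    rw [hs, show g⁻¹ * K.t * g * (g⁻¹ * K.t * g) = g⁻¹ * (K.t * K.t) * g by group, htt]; group
  set y := K.η ⟨s, hsC⟩ with hy
  have hyσ : y.σ = 1 := Perm.ext fun i => fix_of_comm_eI (by
    have e : (⟨s, hsC⟩ : K.C) * ⟨_, K.ι_mem (ev (eI i))⟩ = ⟨_, K.ι_mem (ev (eI i))⟩ * ⟨s, hsC⟩ :=
      Subtype.ext (hsc _).symm
    have := congrArg K.η e
    rwa [map_mul, map_mul, K.sect] at this)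
  have hsy : s = K.ι y := by
    have hodd := K.eq_of_η (a := ⟨s, hsC⟩) (b := ⟨_, K.ι_mem y⟩) (K.sect y).symm
    have hyy : y * y = 1 := by
      rw [eq_ev hyσ, ev_mul]; exact (congrArg ev (funext fun _ => two_self _)).trans ev_zero
    have hιy : (K.ι y)⁻¹ = K.ι y := inv_eq_of_mul_eq_one_right (by rw [← map_mul, hyy, map_one])
    simp only [Subgroup.coe_mul, Subgroup.coe_inv, hιy] at hodd
    have hc : K.ι y * s = s * K.ι y := by rw [eq_ev hyσ]; exact hsc _
    have h2 : orderOf (s * K.ι y) ∣ 2 := orderOf_dvd_of_pow_eq_one (by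
      rw [pow_two, show s * K.ι y * (s * K.ι y) = s * (K.ι y * s) * K.ι y by group, hc,
        show s * (s * K.ι y) * K.ι y = (s * s) * (K.ι y * K.ι y) by group, hss, ← map_mul, hyy, map_one, one_mul])
    rcases (Nat.dvd_prime Nat.prime_two).mp h2 with e | e
    · rw [← hιy]; exact eq_inv_of_mul_eq_one_left (orderOf_eq_one_iff.mp e) |>.trans (by rw [hιy])
    · rw [e] at hodd; exact absurd hodd (by decide)
  rw [eq_ev hyσ] at hsy
  have hst : IsConj K.t (K.ι (ev y.v)) := isConj_iff.mpr ⟨g⁻¹, by rw [← hsy, hs, inv_inv]⟩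
  have hg₁ : g * K.ι (ev y.v) * g⁻¹ = K.t := by rw [← hsy, hs]; group
  rcases K.odd_of_conj hst with hodd | hz
  · have hmem : g * K.t * g⁻¹ ∈ K.C := by rw [← K.ι_z]; exact h _
    obtain ⟨d, hdC, hd⟩ := K.invol_conj ⟨_, hmem⟩ (Subtype.ext (by
      show g * K.t * g⁻¹ * (g * K.t * g⁻¹) = 1
      rw [show g * K.t * g⁻¹ * (g * K.t * g⁻¹) = g * (K.t * K.t) * g⁻¹ by group, htt]
      group))
    have h₁ : (d * g) * K.ι (ev y.v) * (d * g)⁻¹ = K.t := by
      rw [show d * g * K.ι (ev y.v) * (d * g)⁻¹ = d * (g * K.ι (ev y.v) * g⁻¹) * d⁻¹ by group, hg₁,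
        K.mem_C.mp hdC, mul_inv_cancel_right]
    have h₂ : (d * g) * K.t * (d * g)⁻¹ = K.ι (K.η ⟨_, hmem⟩) := by rw [← hd]; group
    obtain ⟨T, -, hT⟩ := K.exists_tr h₁ h₂
    have := T.F_vec hn hodd (fun h => K.t₂_odd T hodd (isConj_iff.mpr ⟨_, h₂⟩) h) u
    rw [hT _ (ev_mem_Cn _ _) (⟨d, hdC⟩ * ⟨_, h u⟩ * ⟨d, hdC⟩⁻¹) (by
      show d * (g * K.ι (ev u) * g⁻¹) * d⁻¹ = _
      group)] at this
    rw [map_mul, map_mul, map_inv, mul_σ, mul_σ, inv_σ, mul_inv_eq_one] at this
    exact mul_left_cancel (this.trans (mul_one _).symm)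
  · rw [hz, K.ι_z] at hg₁
    have hgC : g ∈ K.C := K.mem_C.mpr (mul_inv_eq_iff_eq_mul.mp hg₁)
    rw [show (⟨_, h u⟩ : K.C) = ⟨g, hgC⟩ * ⟨_, K.ι_mem (ev u)⟩ * ⟨g, hgC⟩⁻¹ from rfl, map_mul, map_mul, map_inv,
      K.sect, mul_σ, mul_σ, inv_σ, ev_σ, mul_one, mul_inv_cancel]

/-- Fused vectors are carried to one another by a map of all vectors. -/
theorem exists_linear (hn : 2 ≤ n) {u u' : I n → ZMod 2} (h : K.Cj (ev u) (ev u')) :
    ∃ L : (I n → ZMod 2) →+ (I n → ZMod 2), Function.Injective L ∧ L u = u' ∧ ∀ w, K.Cj (ev w) (ev (L w)) := by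
  classical
  haveI : Fact (Nat.Prime 2) := ⟨Nat.prime_two⟩
  obtain ⟨g, hg⟩ := isConj_iff.mp h
  set H := centralizer ({K.ι (ev u')} : Set G) with hH
  let E : (I n → ZMod 2) → G := fun w => K.ι (ev w)
  let EE : Subgroup G :=
    { carrier := Set.range E
      one_mem' := ⟨0, by show K.ι (ev 0) = 1; rw [ev_zero, map_one]⟩
      mul_mem' := by rintro _ _ ⟨a, rfl⟩ ⟨b, rfl⟩; exact ⟨a + b, by show K.ι _ = _; rw [← ev_mul, map_mul]⟩
      inv_mem' := by
        rintro _ ⟨a, rfl⟩
        refine ⟨a, (inv_eq_of_mul_eq_one_right ?_).symm⟩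
        show K.ι (ev a) * K.ι (ev a) = 1
        rw [← map_mul, ev_mul, show a + a = 0 from funext fun _ => two_self _, ev_zero, map_one] }
  have hEE : IsPGroup 2 EE := by
    rintro ⟨_, a, rfl⟩
    refine ⟨1, Subtype.ext ?_⟩
    show K.ι (ev a) ^ 2 ^ 1 = 1
    rw [pow_one, pow_two, ← map_mul, ev_mul, show a + a = 0 from funext fun _ => two_self _, ev_zero, map_one]
  have h1 : EE ≤ H := by
    rintro _ ⟨a, rfl⟩
    refine mem_centralizer_singleton_iff.mpr ?_
    show K.ι (ev a) * K.ι (ev u') = _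
    rw [← map_mul, comm_ev_ev, map_mul]
  have h2 : EE.map (MulAut.conj g).toMonoidHom ≤ H := by
    rintro _ ⟨_, ⟨a, rfl⟩, rfl⟩
    refine mem_centralizer_singleton_iff.mpr ?_
    show g * K.ι (ev a) * g⁻¹ * K.ι (ev u') = K.ι (ev u') * (g * K.ι (ev a) * g⁻¹)
    rw [← hg, show g * K.ι (ev a) * g⁻¹ * (g * K.ι (ev u) * g⁻¹) = g * (K.ι (ev a) * K.ι (ev u)) * g⁻¹ by group,
      ← map_mul, comm_ev_ev, map_mul]
    group
  obtain ⟨R₁, hR₁⟩ := (show IsPGroup 2 ((EE.map (MulAut.conj g).toMonoidHom).subgroupOf H) from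
    (hEE.map _).comap_subtype).exists_le_sylow
  obtain ⟨R₂, hR₂⟩ := (show IsPGroup 2 (EE.subgroupOf H) from hEE.comap_subtype).exists_le_sylow
  obtain ⟨c, hc⟩ := MulAction.exists_smul_eq H R₁ R₂
  obtain ⟨S₀⟩ : Nonempty (Sylow 2 (W n)) := inferInstance
  obtain ⟨T, hT⟩ := K.sylow_map S₀
  obtain ⟨R, hR⟩ := (R₂.2.map H.subtype).exists_le_sylow
  obtain ⟨k, hk⟩ := MulAction.exists_smul_eq G T R
  have key : ∀ x ∈ (R₂ : Subgroup H).map H.subtype, ∃ a, k⁻¹ * x * k = K.ι a := by
    intro x hx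
    have h' := hR hx
    rw [← hk, Sylow.coe_subgroup_smul, Subgroup.pointwise_smul_def] at h'
    obtain ⟨r, hr, hrx⟩ := h'
    have hr' : r ∈ (S₀ : Subgroup (W n)).map K.ι := hT ▸ hr
    obtain ⟨a, -, ha⟩ := hr'
    refine ⟨a, ?_⟩
    rw [← hrx, ha]
    show k⁻¹ * (k * r * k⁻¹) * k = r
    group
  have hE : ∀ w, E w ∈ (R₂ : Subgroup H).map H.subtype := fun w =>
    ⟨⟨E w, h1 ⟨w, rfl⟩⟩, hR₂ (show E w ∈ EE from ⟨w, rfl⟩), rfl⟩
  have hgE : ∀ w, (c : G) * g * E w * ((c : G) * g)⁻¹ ∈ (R₂ : Subgroup H).map H.subtype := by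
    intro w
    have hm : g * E w * g⁻¹ ∈ EE.map (MulAut.conj g).toMonoidHom := ⟨E w, ⟨w, rfl⟩, rfl⟩
    refine ⟨c * ⟨_, h2 hm⟩ * c⁻¹, ?_, ?_⟩
    · rw [← hc, Sylow.coe_subgroup_smul, Subgroup.pointwise_smul_def]
      exact ⟨⟨_, h2 hm⟩, hR₁ hm, rfl⟩
    · show (c : G) * (g * E w * g⁻¹) * (c : G)⁻¹ = _
      group
  have vec : ∀ {g₀ : G}, (∀ w, g₀ * E w * g₀⁻¹ ∈ (R₂ : Subgroup H).map H.subtype) →
      ∀ w, ∃ b, k⁻¹ * (g₀ * E w * g₀⁻¹) * k = E b := by
    intro g₀ hg₀ w
    have hmem : ∀ w, k⁻¹ * g₀ * K.ι (ev w) * (k⁻¹ * g₀)⁻¹ ∈ K.C := by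
      intro w
      obtain ⟨a, ha⟩ := key _ (hg₀ w)
      rw [show k⁻¹ * g₀ * K.ι (ev w) * (k⁻¹ * g₀)⁻¹ = k⁻¹ * (g₀ * E w * g₀⁻¹) * k by simp only [E]; group, ha]
      exact K.ι_mem a
    obtain ⟨a, ha⟩ := key _ (hg₀ w)
    have := K.weak hn hmem w
    rw [K.sect' (x := a) (by rw [← ha]; show k⁻¹ * g₀ * K.ι (ev w) * (k⁻¹ * g₀)⁻¹ = _; simp only [E]; group)] at this
    exact ⟨a.v, by rw [ha]; show K.ι a = K.ι (ev a.v); rw [← eq_ev this]⟩
  choose f hf using vec (g₀ := 1) (fun w => by simpa using hE w)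
  choose f' hf' using vec hgE
  simp only [one_mul, inv_one, mul_one] at hf
  have hEinj : Function.Injective E := fun a b h => ev_inj (K.ι_inj h)
  have hfinj : Function.Injective f := fun a b h => hEinj (by
    have h' := (hf a).trans ((congrArg E h).trans (hf b).symm)
    exact mul_left_cancel (mul_right_cancel h'))
  choose L hL using fun w => (Finite.injective_iff_surjective.mp hfinj) (f' w)
  have hLw : ∀ w, (c : G) * g * E w * ((c : G) * g)⁻¹ = E (L w) := fun w => by
    have h' := (hf' w).trans ((congrArg E (hL w)).symm.trans (hf (L w)).symm)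
    exact mul_left_cancel (mul_right_cancel h')
  have hadd : ∀ a b, L (a + b) = L a + L b := fun a b => hEinj (by
    rw [← hLw]
    show (c : G) * g * K.ι (ev (a + b)) * ((c : G) * g)⁻¹ = K.ι (ev (L a + L b))
    rw [← ev_mul, ← ev_mul, map_mul, map_mul, show K.ι (ev (L a)) = E (L a) from rfl,
      show K.ι (ev (L b)) = E (L b) from rfl, ← hLw, ← hLw]
    simp only [E]
    group)
  refine ⟨AddMonoidHom.mk' L hadd, fun a b h => hEinj ?_, hEinj ?_, fun w => isConj_iff.mpr ⟨_, hLw w⟩⟩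
  · have h' := (hLw a).trans ((congrArg E (show L a = L b from h)).trans (hLw b).symm)
    exact mul_left_cancel (mul_right_cancel h')
  · show E (L u) = E u'
    rw [← hLw]
    show (c : G) * g * K.ι (ev u) * ((c : G) * g)⁻¹ = _
    rw [show (c : G) * g * K.ι (ev u) * ((c : G) * g)⁻¹ = (c : G) * (g * K.ι (ev u) * g⁻¹) * (c : G)⁻¹ by group, hg,
      mem_centralizer_singleton_iff.mp c.2, mul_inv_cancel_right]

/-- Two odd vectors fused to the central involution meet evenly. -/
theorem inner_zero (hn : 2 ≤ n) {s w : I n → ZMod 2} (hs : ∑ i, s i = 1) (hw : ∑ i, w i = 1)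
    (hst : IsConj K.t (K.ι (ev s))) (hwt : IsConj K.t (K.ι (ev w))) (hne : w ≠ s) : ∑ i, s i * w i = 0 := by
  obtain ⟨t₂, ht₂, T, hT⟩ := K.exists_tr_of_conj hst
  have hodd := fun h => K.t₂_odd T hs ht₂ h
  have hσ := T.F_vec hn hs hodd w
  have h1 : IsConj K.t (K.ι (ev (T.F (ev w)).v)) := by
    rw [← eq_ev hσ]
    refine hwt.trans (hT _ (ev_mem_Cn _ _) ?_)
    rw [ev_mul]; exact (congrArg ev (funext fun _ => two_self _)).trans ev_zero
  have h2 : ∑ i, (T.F (ev w)).v i = 1 := by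
    refine (K.odd_of_conj h1).resolve_right fun e => hne (ev_inj (T.F_inj (ev_mem_Cn _ _) (self_mem _) ?_))
    rw [T.F_t, eq_ev hσ, e]
  rw [T.par_F hn hs hodd w] at h2
  simp only [add_mul, one_mul, Finset.sum_add_distrib, hw] at h2
  rwa [add_eq_left] at h2

/-- The other vectors fused to the central involution: a singleton, or the complement of one. -/
theorem exists_base (hn : 2 ≤ n) : ∃ ε : ZMod 2, ∀ w : I n → ZMod 2,
    (∑ i, w i = 1 ∧ IsConj K.t (K.ι (ev w))) ↔ ∃ j, w = fun i => ε + eI j i := by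
  classical
  obtain ⟨s, hs, hst⟩ := K.exists_odd ⟨0, by omega⟩
  have shape : ∀ w : I n → ZMod 2, ∑ i, w i = 1 → IsConj K.t (K.ι (ev w)) →
      ∃ ε : ZMod 2, ∃ j, w = fun i => ε + eI j i := by
    intro w hw hwt
    by_contra hc
    push Not at hc
    obtain ⟨p, hp⟩ : ∃ p, w p = 1 := by
      by_contra hc'
      push Not at hc'
      rw [Finset.sum_eq_zero fun i _ => (zmod_cases (w i)).resolve_right (hc' i)] at hw
      exact zero_ne_one hw
    obtain ⟨q, hq⟩ : ∃ q, w q = 0 := by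
      by_contra hc'
      push Not at hc'
      rw [Finset.sum_congr rfl fun i _ => (zmod_cases (w i)).resolve_left (hc' i), sum_one] at hw
      exact zero_ne_one hw
    obtain ⟨p', hp', hpp⟩ : ∃ p', w p' = 1 ∧ p' ≠ p := by
      by_contra hc'
      push Not at hc'
      refine hc 0 p (funext fun i => ?_)
      rw [zero_add]
      rcases eq_or_ne i p with rfl | hi
      · rw [hp, eI_self]
      · rw [eI_ne hi]; exact (zmod_cases (w i)).resolve_right fun e => hi (hc' i e)
    obtain ⟨q', hq', hqq⟩ : ∃ q', w q' = 0 ∧ q' ≠ q := by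
      by_contra hc'
      push Not at hc'
      refine hc 1 q (funext fun i => ?_)
      rcases eq_or_ne i q with rfl | hi
      · rw [hq, eI_self, two_self]
      · rw [eI_ne hi, add_zero]; exact (zmod_cases (w i)).resolve_left fun e => hi (hc' i e)
    set w' : I n → ZMod 2 := fun i => w ((swap p q * swap p' q') i) with hw'
    have hne1 : p ≠ q := fun e => by rw [e, hq] at hp; exact zero_ne_one hp
    have hne2 : p' ≠ q' := fun e => by rw [e, hq'] at hp'; exact zero_ne_one hp'
    have hne3 : p ≠ q' := fun e => by rw [e, hq'] at hp; exact zero_ne_one hp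
    have hne4 : p' ≠ q := fun e => by rw [e, hq] at hp'; exact zero_ne_one hp'
    have hval : w' = fun i => w i + eI p i + eI q i + eI p' i + eI q' i := by
      funext i
      simp only [hw', Perm.mul_apply, eI]
      rcases eq_or_ne i p with rfl | h1
      · rw [swap_apply_of_ne_of_ne hpp.symm hne3, swap_apply_left, hq, hp]
        simp [hne1, hpp.symm, hne3]
        decide
      rcases eq_or_ne i q with rfl | h2
      · rw [swap_apply_of_ne_of_ne hne4.symm hqq.symm, swap_apply_right, hp, hq]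
        simp [hne1.symm, hne4.symm, hqq.symm]
      rcases eq_or_ne i p' with rfl | h3
      · rw [swap_apply_left, swap_apply_of_ne_of_ne hne3.symm hqq, hq', hp']
        simp [h1, h2, hne2]
        decide
      rcases eq_or_ne i q' with rfl | h4
      · rw [swap_apply_right, swap_apply_of_ne_of_ne hpp hne4, hp', hq']
        simp [h1, h2, h3]
      · rw [swap_apply_of_ne_of_ne h3 h4, swap_apply_of_ne_of_ne h1 h2]
        simp [h1, h2, h3, h4]
    have hs' : ∑ i, w' i = 1 := by
      simp only [hw']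
      rw [Equiv.sum_comp (swap p q * swap p' q') w]
      exact hw
    have := K.inner_zero hn hw hs' hwt (hwt.trans (K.conj_perm w _)) (fun e => by
      have := congrFun e p
      rw [hval] at this
      simp [hp, hne1, hpp.symm, hne3, eI] at this)
    rw [hval] at this
    simp only [mul_add, Finset.sum_add_distrib] at this
    rw [Finset.sum_congr rfl (g := w) fun i _ => by rcases zmod_cases (w i) with e | e <;> rw [e] <;> rfl, hw] at this
    simp only [eI, mul_ite, mul_one, mul_zero, Finset.sum_ite_eq', Finset.mem_univ, if_true, hp, hq, hp', hq'] at this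
    exact absurd this (by decide)
  have allj : ∀ {ε : ZMod 2} {j : I n}, IsConj K.t (K.ι (ev fun i => ε + eI j i)) →
      ∀ j', IsConj K.t (K.ι (ev fun i => ε + eI j' i)) := by
    intro ε j h j'
    refine h.trans ?_
    have e : (fun i => ε + eI j ((swap j j') i)) = fun i => ε + eI j' i := by
      funext i
      simp only [eI]
      congr 2
      rw [swap_apply_eq_iff, swap_apply_left]
    exact e ▸ K.conj_perm _ (swap j j')
  have hpar : ∀ (ε : ZMod 2) (j : I n), ∑ i, (ε + eI j i) = 1 := by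
    intro ε j
    rw [Finset.sum_add_distrib, eI_sum, Finset.sum_const, Finset.card_univ, nsmul_eq_mul, card_I_zero, zero_mul,
      zero_add]
  obtain ⟨ε, j, rfl⟩ := shape s hs hst
  refine ⟨ε, fun w => ⟨fun ⟨hw, hwt⟩ => ?_, fun ⟨j', hj'⟩ => hj' ▸ ⟨hpar ε j', allj hst j'⟩⟩⟩
  obtain ⟨ε', j', rfl⟩ := shape w hw hwt
  by_cases hε : ε' = ε
  · exact ⟨j', by rw [hε]⟩
  · exfalso
    obtain ⟨j'', hj''⟩ := Fintype.exists_ne_of_one_lt_card (by
      rw [Fintype.card_prod, Fintype.card_fin, Fintype.card_bool]; omega) j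
    obtain ⟨k, hk1, hk2⟩ : ∃ k, k ≠ j ∧ k ≠ j'' := by
      by_contra hc
      push Not at hc
      have := Finset.card_le_card (show (Finset.univ : Finset (I n)) ⊆ {j, j''} from fun k _ => by
        rw [Finset.mem_insert, Finset.mem_singleton]
        exact or_iff_not_imp_left.mpr (hc k))
      have h2 := this.trans Finset.card_le_two
      rw [Finset.card_univ, Fintype.card_prod, Fintype.card_fin, Fintype.card_bool] at h2
      omega
    have := K.inner_zero hn hs (hpar ε' j'') hst (allj hwt j'') (fun e => by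
      have := congrFun e k
      rw [eI_ne hk1, eI_ne hk2, add_zero, add_zero] at this
      exact hε this)
    simp only [eI, add_mul, mul_add, Finset.sum_add_distrib, mul_ite, ite_mul, mul_one, one_mul, mul_zero,
      zero_mul, Finset.sum_ite_eq', Finset.mem_univ, if_true, Finset.sum_const, Finset.card_univ, nsmul_eq_mul,
      card_I_zero, Ne.symm hj'', if_false, hj''] at this
    revert this
    rcases zmod_cases ε with a | a <;> rcases zmod_cases ε' with b | b <;> simp [a, b] at hε ⊢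

/-- Fused even vectors have the same weight. -/
theorem wt_eq (hn : 2 ≤ n) {u u' : I n → ZMod 2} (hu : ∑ i, u i = 0) (hu' : ∑ i, u' i = 0)
    (h : K.Cj (ev u) (ev u')) : wt u = wt u' := by
  classical
  obtain ⟨ε, hε⟩ := K.exists_base hn
  obtain ⟨L, hL, rfl, hLc⟩ := K.exists_linear hn h
  let φ : Option (I n) → I n → ZMod 2 := fun o => o.elim (fun _ => 1) fun j i => ε + eI j i
  have hsome : ∀ j, ∑ i, φ (some j) i = 1 ∧ IsConj K.t (K.ι (ev (φ (some j)))) := fun j => (hε _).mpr ⟨j, rfl⟩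
  have hnone : ∑ i, φ none i = 0 := sum_one
  have hmem : ∀ o, IsConj K.t (K.ι (ev (φ o))) := by
    rintro (_ | j)
    · show IsConj K.t (K.ι zW)
      rw [K.ι_z]
    · exact (hsome j).2
  have hφ : Function.Injective φ := by
    rintro (_ | j) (_ | j') e
    · rfl
    · exact absurd (hnone.symm.trans ((congrArg (fun f => ∑ i, f i) e).trans (hsome j').1)) zero_ne_one
    · exact absurd (hnone.symm.trans ((congrArg (fun f => ∑ i, f i) e.symm).trans (hsome j).1)) zero_ne_one
    · have := add_left_cancel (congrFun e j)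
      rw [eI_self] at this
      by_contra hc
      rw [eI_ne fun e' => hc (congrArg some e')] at this
      exact one_ne_zero this
  have himg : ∀ o, ∃ o', φ o' = L (φ o) := by
    intro o
    rcases K.odd_of_conj ((hmem o).trans (hLc _)) with e | e
    · obtain ⟨j, hj⟩ := (hε _).mp ⟨e, (hmem o).trans (hLc _)⟩
      exact ⟨some j, hj.symm⟩
    · exact ⟨none, (ev_inj e).symm⟩
  choose π hπ using himg
  have hπi : Function.Injective π := fun a b e => hφ (hL (by rw [← hπ, ← hπ, e]))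
  set J : Finset (Option (I n)) := (Finset.univ.filter fun i => u i = 1).image fun i => π (some i) with hJ
  have hJc : J.card = wt u := Finset.card_image_of_injective _ (hπi.comp (Option.some_injective _))
  have hev : (wt u : ZMod 2) = 0 := by
    rw [← hu, wt, Finset.card_filter, Nat.cast_sum]
    exact Finset.sum_congr rfl fun i _ => by rcases zmod_cases (u i) with e | e <;> simp [e]
  have hexp : ∀ (v : I n → ZMod 2), (wt v : ZMod 2) = 0 →
      v = ∑ i ∈ Finset.univ.filter (fun i => v i = 1), φ (some i) := by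
    intro v hv
    funext k
    rw [Finset.sum_apply]
    show v k = ∑ i ∈ Finset.univ.filter (fun i => v i = 1), (ε + eI i k)
    rw [Finset.sum_add_distrib, Finset.sum_const, nsmul_eq_mul, show ((Finset.univ.filter fun i => v i = 1).card :
      ZMod 2) = 0 from hv, zero_mul, zero_add]
    simp only [eI, Finset.sum_ite_eq, Finset.mem_filter, Finset.mem_univ, true_and]
    rcases zmod_cases (v k) with e | e <;> simp [e]
  have hLu : L u = ∑ o ∈ J, φ o := by
    conv_lhs => rw [hexp u hev]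
    rw [map_sum, hJ, Finset.sum_image fun a _ b _ e => Option.some_injective _ (hπi e)]
    exact Finset.sum_congr rfl fun i _ => (hπ (some i)).symm
  have hnotnone : none ∉ J := by
    intro hm
    have h0 : ∑ k, L u k = ∑ o ∈ J, ∑ k, φ o k := by
      rw [hLu, Finset.sum_comm]
      exact Finset.sum_congr rfl fun k _ => Finset.sum_apply k J φ
    rw [hu', ← Finset.sum_erase_add _ _ hm, hnone, add_zero, Finset.sum_congr rfl (g := fun _ => (1 : ZMod 2))
      (fun o ho => by
        obtain ⟨ho1, -⟩ := Finset.mem_erase.mp ho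
        obtain ⟨j, rfl⟩ := Option.ne_none_iff_exists'.mp ho1
        exact (hsome j).1), Finset.sum_const, Finset.card_erase_of_mem hm, nsmul_eq_mul, mul_one, hJc] at h0
    have hpos : 1 ≤ wt u := hJc ▸ Finset.card_pos.mpr ⟨_, hm⟩
    rw [Nat.cast_sub hpos, hev, Nat.cast_one] at h0
    exact absurd h0 (by decide)
  set J₀ : Finset (I n) := Finset.univ.filter fun i => some i ∈ J with hJ₀
  have hJ' : J = J₀.image some := by
    ext o
    cases o with
    | none => simp [hnotnone]
    | some j => simp [hJ₀]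
  have hc₀ : J₀.card = wt u := by rw [← hJc, hJ', Finset.card_image_of_injective _ (Option.some_injective _)]
  rw [← hc₀, wt]
  congr 1
  ext k
  have hk : L u k = if k ∈ J₀ then 1 else 0 := by
    rw [hLu, hJ', Finset.sum_image fun a _ b _ e => Option.some_injective _ e, Finset.sum_apply]
    show ∑ i ∈ J₀, (ε + eI i k) = _
    rw [Finset.sum_add_distrib, Finset.sum_const, nsmul_eq_mul, hc₀, hev, zero_mul, zero_add]
    simp only [eI, Finset.sum_ite_eq]
  rw [show k ∈ Finset.univ.filter (fun i => L u i = 1) ↔ L u k = 1 by simp, hk]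
  by_cases e : k ∈ J₀ <;> simp [e]

/-- An odd involution is fused to an even one with as many fixed vectors. -/
theorem exists_even (hn : 2 ≤ n) {x : W n} (hx : x * x = 1) :
    ∃ y : W n, y * y = 1 ∧ ∑ i, y.v i = 0 ∧ K.Cj x y ∧ NE y = NE x := by
  classical
  rcases zmod_cases (∑ i, x.v i) with e | e
  · exact ⟨x, hx, e, IsConj.refl _, rfl⟩
  obtain ⟨hσ, hxv⟩ := sq_iff.mp hx
  have hinv : ∀ i, x.σ (x.σ i) = i := fun i => Perm.ext_iff.mp hσ i
  have hfix : ∀ f : I n → ZMod 2, (∀ i, f (x.σ i) = f i) → ∑ i, f i = ∑ i ∈ Finset.univ.filter (fun i => x.σ i = i), f i := by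
    intro f hf
    rw [← Finset.sum_filter_add_sum_filter_not Finset.univ fun i => x.σ i = i]
    refine add_eq_left.mpr (Finset.sum_involution (fun i _ => x.σ i) (fun i _ => by rw [hf, two_self])
      (fun i hi _ => (Finset.mem_filter.mp hi).2)
      (fun i hi => Finset.mem_filter.mpr ⟨Finset.mem_univ _, fun e => (Finset.mem_filter.mp hi).2 (x.σ.injective e)⟩)
      fun i _ => hinv i)
  obtain ⟨p, hp, hpv⟩ : ∃ p, x.σ p = p ∧ x.v p = 1 := by
    by_contra hc
    push Not at hc
    rw [hfix _ hxv, Finset.sum_eq_zero fun i hi =>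
      (zmod_cases (x.v i)).resolve_right (hc i (Finset.mem_filter.mp hi).2)] at e
    exact zero_ne_one e
  obtain ⟨q, hq, hqv⟩ : ∃ q, x.σ q = q ∧ x.v q = 0 := by
    by_contra hc
    push Not at hc
    rw [hfix _ hxv, Finset.sum_congr rfl fun i hi =>
      (zmod_cases (x.v i)).resolve_left (hc i (Finset.mem_filter.mp hi).2), ← hfix _ fun _ => rfl, sum_one] at e
    exact zero_ne_one e
  have hpq : p ≠ q := fun e' => by rw [e', hqv] at hpv; exact zero_ne_one hpv
  obtain ⟨ε, hε⟩ := K.exists_base hn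
  obtain ⟨j, hj, hjw⟩ : ∃ j, x.σ j = j ∧ (ε + eI j p) + (ε + eI j q) = 1 :=
    ⟨p, hp, by rw [eI_self, eI_ne hpq.symm]; rcases zmod_cases ε with a | a <;> rw [a] <;> rfl⟩
  set w : I n → ZMod 2 := fun i => ε + eI j i with hw
  obtain ⟨hwodd, hwt⟩ := (hε w).mpr ⟨j, rfl⟩
  obtain ⟨t₂, ht₂, T, hT⟩ := K.exists_tr_of_conj hwt
  have hodd := fun h => K.t₂_odd T hwodd ht₂ h
  have hxw : x ∈ Cn (ev w) := mem_Cn.mpr (comm_ev_iff.mpr fun i => by
    show ε + eI j (x.σ i) = ε + eI j i
    simp only [eI]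
    congr 2
    exact propext ⟨fun h => x.σ.injective (h.trans hj.symm), fun h => by rw [h, hj]⟩)
  set d : I n → ZMod 2 := eI p + eI q with hd
  set x' := ev d * x with hx'
  have hx'e : x' = pp (swap p q) * x * (pp (swap p q))⁻¹ := by
    rw [conj_pp]
    refine W.ext (funext fun i => ?_) ?_
    · show d i + x.v _ = x.v _
      simp only [ev_σ, inv_one, Perm.one_apply, hd, Pi.add_apply, eI, swap_inv]
      rcases eq_or_ne i p with rfl | h1
      · rw [swap_apply_left, hpv, hqv]; simp [hpq]; decide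
      · rcases eq_or_ne i q with rfl | h2
        · rw [swap_apply_right, hpv, hqv]; simp [hpq.symm]
        · rw [swap_apply_of_ne_of_ne h1 h2]; simp [h1, h2]
    · show (1 : Perm (I n)) * x.σ = swap p q * x.σ * (swap p q)⁻¹
      rw [one_mul]
      refine eq_mul_inv_iff_mul_eq.mpr ?_
      rw [Equiv.mul_swap_eq_swap_mul, hp, hq]
  have hx'w : x' ∈ Cn (ev w) := mul_mem (ev_mem_Cn _ _) hxw
  have hx'2 : x' * x' = 1 := by
    rw [hx'e, show pp (swap p q) * x * (pp (swap p q))⁻¹ * (pp (swap p q) * x * (pp (swap p q))⁻¹) =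
      pp (swap p q) * (x * x) * (pp (swap p q))⁻¹ by group, hx]
    group
  have hpar : ∑ i, (T.F x').v i = 1 + ∑ i, (T.F x).v i := by
    rw [hx', T.F_mul (ev_mem_Cn _ _) hxw, ← par_eq, map_mul, toAdd_mul, par_eq, par_eq, T.par_F hn hwodd hodd]
    congr 1
    simp only [hd, Pi.add_apply, mul_add, Finset.sum_add_distrib, eI, mul_ite, mul_one, mul_zero,
      Finset.sum_ite_eq', Finset.mem_univ, if_true]
    rw [show (1 + w p) + (1 + w q) = w p + w q by
      rw [show 1 + w p + (1 + w q) = w p + w q + (1 + 1) by ring, two_self, add_zero]]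
    exact hjw
  have hFF : ∀ {y : W n}, y ∈ Cn (ev w) → y * y = 1 → T.F y * T.F y = 1 := fun hy hyy => by
    rw [← T.F_mul hy hy, hyy, T.F_one]
  rcases zmod_cases (∑ i, (T.F x).v i) with e' | e'
  · exact ⟨T.F x, hFF hxw hx, e', hT _ hxw hx, T.NE_eq hn hwodd hodd hxw⟩
  · refine ⟨T.F x', hFF hx'w hx'2, by rw [hpar, e', two_self], ?_, ?_⟩
    · refine IsConj.trans ?_ (hT _ hx'w hx'2)
      refine isConj_iff.mpr ⟨K.ι (pp (swap p q)), ?_⟩
      rw [← map_inv, ← map_mul, ← map_mul, hx'e]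
    · rw [T.NE_eq hn hwodd hodd hx'w]
      refine Nat.card_congr (Equiv.subtypeEquivRight fun u => ?_)
      rw [hx', mul_σ, ev_σ, one_mul]

end Ctx

end CfsgLib.AltCentClasses
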