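import Cfsg.Agent.Lib.AltCentClasses.Abel

/-!
Isomorphisms between centralisers in the wreath product that move one element to the all-one vector.
-/

set_option autoImplicit false
set_option linter.unusedSimpArgs false

namespace CfsgLib.AltCentClasses

open Equiv

variable {n : ℕ}

/-- The centraliser. -/
abbrev Cn (t : W n) : Subgroup (W n) := Subgroup.centralizer {t}

theorem mem_Cn {t x : W n} : x ∈ Cn t ↔ x * t = t * x := Subgroup.mem_centralizer_singleton_iff

theorem z_mem (t : W n) : zW ∈ Cn t := mem_Cn.mpr (z_comm t).symm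

theorem self_mem (t : W n) : t ∈ Cn t := mem_Cn.mpr rfl

/-- An isomorphism of centralisers taking `t₁` to the all-one vector and that to `t₂`. -/
structure Tr (t₁ t₂ : W n) where
  f : Cn t₁ ≃* Cn t₂
  f_t : (f ⟨t₁, self_mem t₁⟩ : W n) = zW
  f_z : (f ⟨zW, z_mem t₁⟩ : W n) = t₂

namespace Tr

variable {t₁ t₂ : W n} (T : Tr t₁ t₂)

/-- The map on all elements, meaningful on the centraliser. -/
noncomputable def F (x : W n) : W n :=
  haveI := Classical.dec (x ∈ Cn t₁)
  if h : x ∈ Cn t₁ then T.f ⟨x, h⟩ else 1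

theorem F_eq {x : W n} (h : x ∈ Cn t₁) : T.F x = T.f ⟨x, h⟩ := dif_pos h

theorem F_t : T.F t₁ = zW := by rw [T.F_eq (self_mem t₁), T.f_t]

theorem F_z : T.F zW = t₂ := by rw [T.F_eq (z_mem t₁), T.f_z]

theorem F_mem {x : W n} (h : x ∈ Cn t₁) : T.F x ∈ Cn t₂ := by rw [T.F_eq h]; exact (T.f ⟨x, h⟩).2

theorem F_mul {x y : W n} (hx : x ∈ Cn t₁) (hy : y ∈ Cn t₁) : T.F (x * y) = T.F x * T.F y := by
  rw [T.F_eq hx, T.F_eq hy, T.F_eq (mul_mem hx hy), ← Subgroup.coe_mul, ← map_mul]
  rfl

theorem F_one : T.F 1 = 1 := by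
  rw [T.F_eq (one_mem _)]
  exact congrArg Subtype.val (map_one T.f)

theorem F_inv {x : W n} (hx : x ∈ Cn t₁) : T.F x⁻¹ = (T.F x)⁻¹ := by
  refine eq_inv_of_mul_eq_one_left ?_
  rw [← T.F_mul (inv_mem hx) hx, inv_mul_cancel, T.F_one]

theorem F_inj {x y : W n} (hx : x ∈ Cn t₁) (hy : y ∈ Cn t₁) (h : T.F x = T.F y) : x = y := by
  rw [T.F_eq hx, T.F_eq hy] at h
  exact congrArg Subtype.val (T.f.injective (Subtype.ext h))

theorem F_surj {y : W n} (hy : y ∈ Cn t₂) : ∃ x ∈ Cn t₁, T.F x = y := by
  refine ⟨_, (T.f.symm ⟨y, hy⟩).2, ?_⟩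
  rw [T.F_eq (T.f.symm ⟨y, hy⟩).2]
  simp

theorem F_conj {x u : W n} (hx : x ∈ Cn t₁) (hu : u ∈ Cn t₁) :
    T.F (x * u * x⁻¹) = T.F x * T.F u * (T.F x)⁻¹ := by
  rw [T.F_mul (mul_mem hx hu) (inv_mem hx), T.F_mul hx hu, T.F_inv hx]

end Tr

theorem ev_mem_Cn (v u : I n → ZMod 2) : ev u ∈ Cn (ev v) := mem_Cn.mpr (comm_ev_ev u v)

theorem pp_mem_Cn {v : I n → ZMod 2} {σ : Perm (I n)} (h : ∀ i, v (σ i) = v i) : pp σ ∈ Cn (ev v) :=
  mem_Cn.mpr (comm_ev_iff.mpr h)

theorem delta_ev (u : I n → ZMod 2) {ρ : Perm (I n)} (hρ : ρ * ρ = 1) :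
    ev u * pp ρ * ev u * pp ρ = ev (fun i => u i + u (ρ i)) := by
  have h1 : pp ρ * ev u * pp ρ = ev fun i => u (ρ i) := by
    have h := conj_ev (pp ρ) u
    rw [inv_eq_of_mul_eq_one_right (show pp ρ * pp ρ = 1 by rw [pp_mul, hρ]; rfl), pp_σ,
      inv_eq_of_mul_eq_one_right hρ] at h
    exact h
  rw [show ev u * pp ρ * ev u * pp ρ = ev u * (pp ρ * ev u * pp ρ) by group, h1, ev_mul]
  rfl

theorem even_filter {α : Type*} [Fintype α] (u : α → ZMod 2) (h : ∑ i, u i = 0) :
    Even (Finset.univ.filter fun i => u i = 1).card := by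
  classical
  rw [← ZMod.natCast_eq_zero_iff_even]
  rw [← h, Finset.card_filter, Nat.cast_sum]
  refine Finset.sum_congr rfl fun i _ => ?_
  rcases zmod_cases (u i) with e | e <;> simp [e]

theorem card_I_zero : ((Fintype.card (I n) : ℕ) : ZMod 2) = 0 := by
  rw [Fintype.card_prod, Fintype.card_bool, Nat.cast_mul, show ((2 : ℕ) : ZMod 2) = 0 from rfl, mul_zero]

namespace Tr

variable {v : I n → ZMod 2} {t₂ : W n} (T : Tr (ev v) t₂)

/-- The image of the vectors. -/
noncomputable def A : Subgroup (W n) where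
  carrier := {x | ∃ u, T.F (ev u) = x}
  one_mem' := ⟨0, by rw [ev_zero, T.F_one]⟩
  mul_mem' := by
    rintro _ _ ⟨a, rfl⟩ ⟨b, rfl⟩
    exact ⟨a + b, by rw [← ev_mul, T.F_mul (ev_mem_Cn v a) (ev_mem_Cn v b)]⟩
  inv_mem' := by
    rintro _ ⟨a, rfl⟩
    refine ⟨a, (inv_eq_of_mul_eq_one_right ?_).symm⟩
    rw [← T.F_mul (ev_mem_Cn v a) (ev_mem_Cn v a), ev_mul,
      show a + a = 0 from funext fun i => two_self _, ev_zero, T.F_one]

theorem mem_A {u : I n → ZMod 2} : T.F (ev u) ∈ T.A := ⟨u, rfl⟩

theorem A_r : ∃ r : Perm (I n), r * r = 1 ∧ ∀ x, x ∈ T.A ↔ InAS r x := by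
  refine exists_r T.A ?_ ?_ ?_
  · rintro _ ⟨a, rfl⟩ _ ⟨b, rfl⟩
    rw [← T.F_mul (ev_mem_Cn v a) (ev_mem_Cn v b), ← T.F_mul (ev_mem_Cn v b) (ev_mem_Cn v a), comm_ev_ev]
  · rintro _ ⟨a, rfl⟩
    rw [← T.F_mul (ev_mem_Cn v a) (ev_mem_Cn v a), ev_mul, show a + a = 0 from funext fun i => two_self _,
      ev_zero, T.F_one]
  · refine le_of_eq_of_le ?_
      (Nat.card_le_card_of_injective (fun u : I n → ZMod 2 => (⟨T.F (ev u), T.mem_A⟩ : T.A)) fun a b h =>
        ev_inj (T.F_inj (ev_mem_Cn v a) (ev_mem_Cn v b) (congrArg Subtype.val h)))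
    rw [Nat.card_fun, Nat.card_zmod, Nat.card_eq_fintype_card, Fintype.card_prod, Fintype.card_fin,
      Fintype.card_bool, mul_comm]

theorem A_normal {y a : W n} (hy : y ∈ Cn t₂) (ha : a ∈ T.A) : y * a * y⁻¹ ∈ T.A := by
  obtain ⟨x, hx, rfl⟩ := T.F_surj hy
  obtain ⟨u, rfl⟩ := ha
  refine ⟨fun i => u (x.σ⁻¹ i), ?_⟩
  rw [← conj_ev, T.F_conj hx (ev_mem_Cn v u)]

theorem z_eq : T.F (ev v) = zW := T.F_t

include T in
/-- The vector is not a non-trivial even one. -/
theorem no_even (hpar : ∑ i, v i = 0) (h1 : ∃ i, v i = 0) : False := by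
  classical
  obtain ⟨r, hr, hA⟩ := T.A_r
  have heven : Even (Fintype.card {i // v i = 1}) := by
    rw [Fintype.card_subtype]; exact even_filter v hpar
  obtain ⟨p, hp2, hpf⟩ := exists_pairing heven
  set ρ : Perm (I n) := Perm.ofSubtype p with hρ
  have hρρ : ρ * ρ = 1 := by rw [hρ, ← map_mul, show p * p = 1 from Perm.ext hp2, map_one]
  have hρ1 : ∀ i (h : v i = 1), ρ i = (p ⟨i, h⟩ : I n) := fun i h => Perm.ofSubtype_apply_of_mem p h
  have hρ0 : ∀ i, v i = 0 → ρ i = i := fun i h =>
    Perm.ofSubtype_apply_of_not_mem p (by rw [h]; exact zero_ne_one)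
  have hv : ∀ i, v (ρ i) = v i := by
    intro i
    rcases zmod_cases (v i) with e | e
    · rw [hρ0 i e]
    · rw [hρ1 i e, e]; exact (p ⟨i, e⟩).2
  have hρC : pp ρ ∈ Cn (ev v) := pp_mem_Cn hv
  let h : I n → ZMod 2 := fun i => if v i = 1 ∧ idx i < idx (ρ i) then 1 else 0
  have hh : (fun i => h i + h (ρ i)) = v := by
    funext i
    have hρi : ρ (ρ i) = i := Perm.ext_iff.mp hρρ i
    simp only [h, hv, hρi]
    rcases zmod_cases (v i) with e | e
    · simp [e]
    · have hne : ρ i ≠ i := fun e' => hpf ⟨i, e⟩ (Subtype.ext (by rw [← hρ1 i e]; exact e'))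
      have hlt : idx (ρ i) ≠ idx i := fun e' => hne (idx_inj e')
      rcases lt_or_gt_of_ne hlt with l | l <;> simp [e, l, not_lt.mpr l.le]
  obtain ⟨i₀, hi₀⟩ := h1
  have hyC : T.F (pp ρ) ∈ Cn t₂ := T.F_mem hρC
  have hy : T.F (pp ρ) * T.F (pp ρ) = 1 := by
    rw [← T.F_mul hρC hρC, pp_mul, hρρ]; exact T.F_one
  have key : ∀ u, T.F (ev u) * T.F (pp ρ) * T.F (ev u) * T.F (pp ρ) = T.F (ev fun i => u i + u (ρ i)) := by
    intro u
    have hu := ev_mem_Cn v u
    rw [← delta_ev u hρρ, T.F_mul (mul_mem (mul_mem hu hρC) hu) hρC, T.F_mul (mul_mem hu hρC) hu, T.F_mul hu hρC]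
  obtain ⟨a, ha, hd⟩ := exists_preimage hr hy (a₀ := T.F (ev h)) (fun a ha => by
    have := T.A_normal hyC ((hA a).mpr ha)
    rw [inv_eq_of_mul_eq_one_right hy] at this
    exact (hA _).mp this) ((hA _).mp T.mem_A) (by rw [key, hh, T.F_t])
    (d := T.F (ev (eI i₀))) ((hA _).mp T.mem_A) (by
      rw [← T.F_mul (ev_mem_Cn v _) hρC, ← T.F_mul hρC (ev_mem_Cn v _)]
      congr 1
      refine (comm_ev_iff.mpr fun i => ?_).symm
      show eI i₀ (ρ i) = eI i₀ i
      by_cases e : i = i₀
      · subst e; rw [hρ0 i hi₀]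
      · have : ρ i ≠ i₀ := fun e' => e (ρ.injective (e'.trans (hρ0 i₀ hi₀).symm))
        rw [eI_ne e, eI_ne this])
  obtain ⟨u, rfl⟩ := (hA a).mpr ha
  rw [key] at hd
  have := congrFun (ev_inj (T.F_inj (ev_mem_Cn v _) (ev_mem_Cn v _) hd)) i₀
  simp only [hρ0 i₀ hi₀, two_self, eI_self] at this
  exact zero_ne_one this

/-- With the vector odd, the vectors are carried to vectors. -/
theorem F_vec (hn : 2 ≤ n) (hodd : ∑ i, v i = 1) (h2 : t₂.σ = 1 → ∑ i, t₂.v i = 1) (u : I n → ZMod 2) :
    (T.F (ev u)).σ = 1 := by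
  classical
  obtain ⟨r, hr, hA⟩ := T.A_r
  have hI : 4 ≤ Fintype.card (I n) := by
    rw [Fintype.card_prod, Fintype.card_fin, Fintype.card_bool]; omega
  have hzA : t₂ ∈ T.A := ⟨fun _ => 1, T.F_z⟩
  have hp1 : ∃ p, v p = 1 := by
    by_contra hc
    push Not at hc
    rw [Finset.sum_eq_zero fun i _ => (zmod_cases (v i)).resolve_right (hc i)] at hodd
    exact zero_ne_one hodd
  have hp0 : ∃ q, v q = 0 := by
    by_contra hc
    push Not at hc
    rw [Finset.sum_congr rfl fun i _ => (zmod_cases (v i)).resolve_left (hc i), Finset.sum_const, Finset.card_univ,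
      nsmul_eq_mul, mul_one, card_I_zero] at hodd
    exact zero_ne_one hodd
  by_cases hσ : t₂.σ = 1
  · -- the image of the centre is a vector
    have hodd2 := h2 hσ
    have et : t₂ = ev t₂.v := eq_ev hσ
    have hclass : ∀ i, r i ≠ i → ∀ k, t₂.v k = t₂.v i → k = i ∨ k = r i := by
      intro i hi k hk
      by_contra hc
      push Not at hc
      have hy : pp (swap i k) ∈ Cn t₂ := by
        rw [et]
        refine pp_mem_Cn fun j => ?_
        rcases eq_or_ne j i with rfl | h1
        · rw [swap_apply_left, hk]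
        · rcases eq_or_ne j k with rfl | h2
          · rw [swap_apply_right, hk]
          · rw [swap_apply_of_ne_of_ne h1 h2]
      have h := ((hA _).mp (T.A_normal hy ((hA _).mpr (InAS.pp r (σ := r) fun _ => Or.inr rfl)))).2 k
      rw [conj_pp, pp_σ] at h
      simp only [Perm.mul_apply, swap_inv, swap_apply_right] at h
      rw [swap_apply_of_ne_of_ne hi (Ne.symm hc.2)] at h
      rcases h with h | h
      · exact hc.2 h.symm
      · exact hc.1 (r.injective h).symm
    have hr1 : ∀ i, r i = i := by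
      intro i
      by_contra hi
      have hri : r (r i) ≠ r i := fun e => hi (r.injective e)
      by_cases hsame : t₂.v (r i) = t₂.v i
      · have hset : (Finset.univ.filter fun k => t₂.v k = t₂.v i) = {i, r i} := by
          ext k
          simp only [Finset.mem_filter, Finset.mem_univ, true_and, Finset.mem_insert, Finset.mem_singleton]
          refine ⟨hclass i hi k, ?_⟩
          rintro (rfl | rfl)
          exacts [rfl, hsame]
        have hval : ∑ k, (t₂.v k + t₂.v i + 1) = 0 := by
          rw [Finset.sum_congr rfl (g := fun k => if t₂.v k = t₂.v i then (1 : ZMod 2) else 0) fun k _ => by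
            rcases zmod_cases (t₂.v k) with e | e <;> rcases zmod_cases (t₂.v i) with e' | e' <;> rw [e, e'] <;>
              decide]
          rw [Finset.sum_boole, hset, Finset.card_pair (Ne.symm hi)]
          rfl
        rw [Finset.sum_add_distrib, Finset.sum_add_distrib, Finset.sum_const, Finset.sum_const, hodd2,
          Finset.card_univ, nsmul_eq_mul, nsmul_eq_mul, card_I_zero, zero_mul, zero_mul, add_zero, add_zero] at hval
        exact one_ne_zero hval
      · have hsub : (Finset.univ : Finset (I n)) ⊆ {i, r i} := by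
          intro k _
          rw [Finset.mem_insert, Finset.mem_singleton]
          by_cases hk : t₂.v k = t₂.v i
          · exact hclass i hi k hk
          · have h3 : t₂.v k = t₂.v (r i) := by
              revert hk hsame
              generalize t₂.v k = a, t₂.v (r i) = b, t₂.v i = c
              revert a b c
              decide
            rcases hclass (r i) hri k h3 with e | e
            · exact Or.inr e
            · exact Or.inl (e.trans (InAS.rr_apply hr i))
        have := (Finset.card_le_card hsub).trans Finset.card_le_two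
        rw [Finset.card_univ] at this
        omega
    refine Perm.ext fun i => ?_
    rcases ((hA _).mp (T.mem_A (u := u))).2 i with e | e
    · exact e
    · exact e.trans (hr1 i)
  · exfalso
    obtain ⟨i₁, hi₁⟩ : ∃ i, t₂.σ i ≠ i := by
      by_contra hc
      push Not at hc
      exact hσ (Perm.ext hc)
    by_cases hfix : ∃ i, t₂.σ i = i
    · -- too many central elements
      obtain ⟨i₀, hi₀⟩ := hfix
      have cen : ∀ c, c ∈ Cn (ev v) → (∀ x ∈ Cn (ev v), c * x = x * c) →
          c.σ = 1 ∧ ∀ i j, v i = v j → c.v i = c.v j := by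
        intro c hc hcc
        have h1 : c.σ = 1 := Perm.ext fun i => fix_of_comm_eI (hcc _ (ev_mem_Cn v (eI i)))
        refine ⟨h1, fun i j hij => ?_⟩
        have hs : pp (swap i j) ∈ Cn (ev v) := pp_mem_Cn fun k => by
          rcases eq_or_ne k i with rfl | h2
          · rw [swap_apply_left, hij]
          · rcases eq_or_ne k j with rfl | h3
            · rw [swap_apply_right, hij]
            · rw [swap_apply_of_ne_of_ne h2 h3]
        have h4 := hcc _ hs
        rw [eq_ev h1] at h4
        have := comm_ev_iff.mp h4.symm j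
        rwa [pp_σ, swap_apply_right] at this
      let χ : I n → ZMod 2 := fun i => if t₂.σ i = i then 0 else 1
      have hχ : ev χ ∈ Cn t₂ ∧ ∀ x ∈ Cn t₂, ev χ * x = x * ev χ := by
        have h : ∀ x ∈ Cn t₂, x * ev χ = ev χ * x := by
          intro x hx
          refine comm_ev_iff.mpr fun i => ?_
          have hc : ∀ j, x.σ (t₂.σ j) = t₂.σ (x.σ j) := fun j => Perm.ext_iff.mp (comm_iff.mp (mem_Cn.mp hx)).1 j
          simp only [χ, ← hc, x.σ.injective.eq_iff]
        exact ⟨mem_Cn.mpr (h _ (self_mem t₂)).symm, fun x hx => (h x hx).symm⟩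
      let Zs := {c : W n // c ∈ Cn t₂ ∧ ∀ x ∈ Cn t₂, c * x = x * c}
      obtain ⟨p, hp⟩ := hp1
      obtain ⟨q, hq⟩ := hp0
      choose g hg using fun c : Zs => T.F_surj c.2.1
      have hinj : Function.Injective fun c : Zs => ((g c).v p, (g c).v q) := by
        intro a b hab
        have hca : ∀ x ∈ Cn (ev v), g a * x = x * g a := fun x hx => T.F_inj (mul_mem (hg a).1 hx)
          (mul_mem hx (hg a).1) (by rw [T.F_mul (hg a).1 hx, T.F_mul hx (hg a).1, (hg a).2, a.2.2 _ (T.F_mem hx)])
        have hcb : ∀ x ∈ Cn (ev v), g b * x = x * g b := fun x hx => T.F_inj (mul_mem (hg b).1 hx)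
          (mul_mem hx (hg b).1) (by rw [T.F_mul (hg b).1 hx, T.F_mul hx (hg b).1, (hg b).2, b.2.2 _ (T.F_mem hx)])
        obtain ⟨a1, a2⟩ := cen _ (hg a).1 hca
        obtain ⟨b1, b2⟩ := cen _ (hg b).1 hcb
        simp only [Prod.mk.injEq] at hab
        have : g a = g b := by
          refine W.ext (funext fun i => ?_) (a1.trans b1.symm)
          rcases zmod_cases (v i) with e | e
          · rw [a2 i q (e.trans hq.symm), b2 i q (e.trans hq.symm), hab.2]
          · rw [a2 i p (e.trans hp.symm), b2 i p (e.trans hp.symm), hab.1]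
        exact Subtype.ext (by rw [← (hg a).2, ← (hg b).2, this])
      have hz : zW ∈ Cn t₂ ∧ ∀ x ∈ Cn t₂, zW * x = x * zW := ⟨z_mem _, fun x _ => (z_comm x).symm⟩
      have ht : t₂ ∈ Cn t₂ ∧ ∀ x ∈ Cn t₂, t₂ * x = x * t₂ := ⟨self_mem _, fun x hx => (mem_Cn.mp hx).symm⟩
      have hzt : zW * t₂ ∈ Cn t₂ ∧ ∀ x ∈ Cn t₂, zW * t₂ * x = x * (zW * t₂) := ⟨mul_mem hz.1 ht.1, fun x hx => by
        rw [mul_assoc, ht.2 x hx, ← mul_assoc, hz.2 x hx, mul_assoc]⟩
      let l : Fin 5 → Zs := ![⟨1, one_mem _, fun x _ => by rw [one_mul, mul_one]⟩, ⟨_, hz⟩, ⟨_, ht⟩, ⟨_, hzt⟩,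
        ⟨_, hχ⟩]
      have hl : Function.Injective l := by
        have key : ∀ a b : W n, a.σ ≠ b.σ → a ≠ b := fun a b h e => h (congrArg W.σ e)
        have n01 : (1 : W n) ≠ zW := fun e => zero_ne_one (congrFun (congrArg W.v e) i₀)
        have n14 : (1 : W n) ≠ ev χ := fun e => by
          have := congrFun (congrArg W.v e) i₁
          simp [χ, hi₁, ev_v, one_v] at this
        have n24 : (zW : W n) ≠ ev χ := fun e => by
          have := congrFun (congrArg W.v e) i₀
          simp [χ, hi₀, ev_v, zW_v] at this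
        have n23 : t₂ ≠ zW * t₂ := fun e => n01 (mul_right_cancel ((one_mul t₂).trans e))
        have hs1 : (zW : W n).σ = 1 := rfl
        have hsz : (zW * t₂).σ = t₂.σ := by rw [mul_σ, hs1, one_mul]
        have n02 : (1 : W n) ≠ t₂ := key _ _ (Ne.symm hσ)
        have n12 : (zW : W n) ≠ t₂ := key _ _ (Ne.symm hσ)
        have n03 : (1 : W n) ≠ zW * t₂ := key _ _ (by rw [hsz]; exact Ne.symm hσ)
        have n13 : (zW : W n) ≠ zW * t₂ := key _ _ (by rw [hsz]; exact Ne.symm hσ)
        have n24' : t₂ ≠ ev χ := key _ _ hσ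
        have n34 : zW * t₂ ≠ ev χ := key _ _ (by rw [hsz]; exact hσ)
        intro a b e
        have e' := congrArg Subtype.val e
        fin_cases a <;> fin_cases b <;> simp [l] at e' ⊢ <;>
          first
            | exact n01 e' | exact n01 e'.symm | exact n02 e' | exact n02 e'.symm | exact n03 e'
            | exact n03 e'.symm | exact n14 e' | exact n14 e'.symm | exact n12 e' | exact n12 e'.symm
            | exact n13 e' | exact n13 e'.symm | exact n24 e' | exact n24 e'.symm | exact n23 e'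
            | exact n23 e'.symm | exact n24' e' | exact n24' e'.symm | exact n34 e' | exact n34 e'.symm
      have := Fintype.card_le_of_injective _ (hinj.comp hl)
      simp at this
    · -- the image of a transposition has two commutators
      push Not at hfix
      obtain ⟨htv, htp⟩ := (hA _).mp hzA
      have hrσ : r = t₂.σ := Perm.ext fun i => ((htp i).resolve_left (hfix i)).symm
      obtain ⟨p, q, hpq, hv⟩ : ∃ p q, p ≠ q ∧ v p = v q := by
        have h3 : Fintype.card (ZMod 2) < Fintype.card (I n) := by rw [ZMod.card]; omega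
        exact Fintype.exists_ne_map_eq_of_card_lt v h3
      have hs : ∀ k, v (swap p q k) = v k := fun k => by
        rcases eq_or_ne k p with rfl | h2
        · rw [swap_apply_left, hv]
        · rcases eq_or_ne k q with rfl | h3
          · rw [swap_apply_right, hv]
          · rw [swap_apply_of_ne_of_ne h2 h3]
      have hx : pp (swap p q) ∈ Cn (ev v) := pp_mem_Cn hs
      set y := T.F (pp (swap p q)) with hy
      have hyy : y * y = 1 := by rw [hy, ← T.F_mul hx hx, pp_mul, swap_mul_self]; exact T.F_one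
      have key : ∀ a ∈ T.A, a * y * a * y = 1 ∨ a * y * a * y = T.F (ev fun i => if i = p ∨ i = q then 1 else 0) := by
        rintro _ ⟨w, rfl⟩
        have hu := ev_mem_Cn v w
        rw [hy, ← T.F_mul hu hx, ← T.F_mul (mul_mem hu hx) hu, ← T.F_mul (mul_mem (mul_mem hu hx) hu) hx,
          delta_ev w (swap_mul_self p q)]
        rcases zmod_cases (w p + w q) with e | e
        · left
          convert T.F_one using 2
          refine congrArg ev (funext fun i => ?_) |>.trans ev_zero
          rcases eq_or_ne i p with rfl | h2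
          · rw [swap_apply_left, e]; rfl
          · rcases eq_or_ne i q with rfl | h3
            · rw [swap_apply_right, add_comm, e]; rfl
            · rw [swap_apply_of_ne_of_ne h2 h3, two_self]; rfl
        · right
          congr 2
          funext i
          rcases eq_or_ne i p with rfl | h2
          · rw [swap_apply_left, e]; simp
          · rcases eq_or_ne i q with rfl | h3
            · rw [swap_apply_right, add_comm, e]; simp
            · rw [swap_apply_of_ne_of_ne h2 h3, two_self]; simp [h2, h3]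
      have hyC := mem_Cn.mp (T.F_mem hx)
      rw [← hy] at hyC
      obtain ⟨hc, hcv⟩ := comm_iff.mp hyC
      obtain ⟨i, hi, hi2⟩ : ∃ i, y.σ i ≠ i ∧ y.σ i ≠ t₂.σ i := by
        by_contra hc'
        push Not at hc'
        have hyA : InAS r y := by
          have hpat : ∀ i, y.σ i = i ∨ y.σ i = r i := fun i => by
            by_cases h : y.σ i = i
            · exact Or.inl h
            · exact Or.inr (by rw [hrσ]; exact hc' i h)
          refine ⟨fun i => ?_, hpat⟩
          rw [hrσ]
          have hyi : y.σ⁻¹ = y.σ := inv_eq_of_mul_eq_one_right (congrArg W.σ hyy)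
          have hti : t₂.σ⁻¹ = t₂.σ := InAS.inv_eq hr ⟨htv, htp⟩ |>.trans rfl
          have := hcv i
          rw [hyi, hti] at this
          rw [show t₂.v (y.σ i) = t₂.v i by
            rcases hpat i with e | e <;> rw [e]
            exact htv i, add_comm (y.v i)] at this
          exact (add_left_cancel this).symm
        obtain ⟨w, hw⟩ := (hA _).mpr hyA
        have := congrArg W.σ (T.F_inj (ev_mem_Cn v w) hx hw)
        exact hpq (swap_eq_one_iff.mp this.symm)
      have rr := InAS.rr_apply hr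
      let χ : I n → ZMod 2 := fun j => if j = i ∨ j = r i then 1 else 0
      have ha1 : ev χ ∈ T.A := (hA _).mpr (InAS.ev r fun j => by
        simp only [χ]
        congr 1
        exact propext ⟨fun h => h.elim (fun e => Or.inr (by rw [← rr j, e])) fun e => Or.inl (r.injective e),
          fun h => h.elim (fun e => Or.inr (by rw [e])) fun e => Or.inl (by rw [e, rr])⟩)
      have ha2 : pp (swap i (r i)) ∈ T.A := (hA _).mpr (InAS.pp r fun j => by
        rcases eq_or_ne j i with rfl | h2
        · exact Or.inr (swap_apply_left _ _)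
        · rcases eq_or_ne j (r i) with rfl | h3
          · exact Or.inr (by rw [swap_apply_right, rr])
          · exact Or.inl (swap_apply_of_ne_of_ne h2 h3))
      have hyi : y.σ⁻¹ = y.σ := inv_eq_of_mul_eq_one_right (congrArg W.σ hyy)
      have e1 : (ev χ * y * ev χ * y).σ = 1 := by
        simp only [mul_σ, ev_σ, one_mul, mul_one]
        exact congrArg W.σ hyy
      have n1 : ev χ * y * ev χ * y ≠ 1 := fun e => by
        have h5 := congrFun (congrArg W.v e) i
        simp only [mul_v, mul_σ, ev_σ, ev_v, one_mul, mul_one, inv_one, Perm.one_apply, hyi, mul_inv_rev,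
          one_v] at h5
        rw [show χ i = 1 from if_pos (Or.inl rfl), show χ (y.σ i) = 0 from if_neg (by rw [hrσ]; tauto)] at h5
        rw [(sq_iff.mp hyy).2 i] at h5
        revert h5
        generalize y.v i = a
        revert a
        decide
      have n2 : (pp (swap i (r i)) * y * pp (swap i (r i)) * y).σ i ≠ i := by
        simp only [mul_σ, pp_σ, Perm.mul_apply]
        rw [swap_apply_of_ne_of_ne hi (hrσ ▸ hi2), show y.σ (y.σ i) = i from
          Perm.ext_iff.mp (congrArg W.σ hyy) i, swap_apply_left, hrσ]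
        exact hfix i
      rcases key _ ha2 with e | e
      · exact n2 (by rw [e]; rfl)
      · rcases key _ ha1 with e' | e'
        · exact n1 e'
        · exact n2 (by rw [e, ← e', e1]; rfl)

/-- The parity of the image of a vector. -/
theorem par_F (hn : 2 ≤ n) (hodd : ∑ i, v i = 1) (h2 : t₂.σ = 1 → ∑ i, t₂.v i = 1) (u : I n → ZMod 2) :
    ∑ i, (T.F (ev u)).v i = ∑ i, (1 + v i) * u i := by
  classical
  have hσ := T.F_vec hn hodd h2
  have ht : ∑ i, t₂.v i = 1 := h2 (by rw [← T.F_z]; exact hσ _)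
  have hadd : ∀ a b, ∑ i, (T.F (ev (a + b))).v i = ∑ i, (T.F (ev a)).v i + ∑ i, (T.F (ev b)).v i := by
    intro a b
    rw [← ev_mul, T.F_mul (ev_mem_Cn v a) (ev_mem_Cn v b), ← par_eq, map_mul, toAdd_mul, par_eq, par_eq]
  let φ : (I n → ZMod 2) →+ ZMod 2 := AddMonoidHom.mk' (fun u => ∑ i, (T.F (ev u)).v i) hadd
  have hcl : ∀ i j, v i = v j → φ (eI i) = φ (eI j) := by
    intro i j hij
    have hx : pp (swap i j) ∈ Cn (ev v) := pp_mem_Cn fun k => by
      rcases eq_or_ne k i with rfl | h3
      · rw [swap_apply_left, hij]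
      · rcases eq_or_ne k j with rfl | h4
        · rw [swap_apply_right, hij]
        · rw [swap_apply_of_ne_of_ne h3 h4]
    have e : pp (swap i j) * ev (eI i) * (pp (swap i j))⁻¹ = ev (eI j) := by
      rw [conj_ev, pp_σ, swap_inv]
      refine congrArg ev (funext fun k => ?_)
      simp only [eI]
      congr 1
      rw [swap_apply_eq_iff, swap_apply_left]
    show ∑ k, (T.F (ev (eI i))).v k = ∑ k, (T.F (ev (eI j))).v k
    rw [← e, T.F_conj hx (ev_mem_Cn v _), ← par_eq, ← par_eq]
    refine congrArg _ ?_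
    rw [map_mul, map_mul, map_inv, mul_right_comm, mul_inv_cancel, one_mul]
  have hexp : ∀ u, φ u = ∑ i, u i * φ (eI i) := by
    intro u
    have : u = ∑ i, fun k => u i * eI i k := by
      funext k
      simp [Finset.sum_apply, eI]
    conv_lhs => rw [this]
    rw [map_sum]
    refine Finset.sum_congr rfl fun i _ => ?_
    rcases zmod_cases (u i) with e | e <;> simp [e]
    · exact map_zero φ
  obtain ⟨p, hp⟩ : ∃ p, v p = 1 := by
    by_contra hc
    push Not at hc
    rw [Finset.sum_eq_zero fun i _ => (zmod_cases (v i)).resolve_right (hc i)] at hodd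
    exact zero_ne_one hodd
  have hφv : φ v = 0 := by
    show ∑ k, (T.F (ev v)).v k = 0
    rw [T.F_t, ← par_eq, par_z]
    rfl
  have hB : ∀ i, v i = 1 → φ (eI i) = 0 := by
    intro i hi
    rw [hexp] at hφv
    rw [← hφv, Finset.sum_congr rfl (g := fun j => v j * φ (eI i)) fun j _ => by
      rcases zmod_cases (v j) with e | e
      · rw [e, zero_mul, zero_mul]
      · rw [hcl j i (e.trans hi.symm)], ← Finset.sum_mul, hodd, one_mul]
  have hC : ∀ i, v i = 0 → φ (eI i) = 1 := by
    intro i hi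
    have h1 : φ (fun _ => 1) = 1 := by
      show ∑ k, (T.F zW).v k = 1
      rw [T.F_z, ht]
    rw [hexp] at h1
    rw [← h1, Finset.sum_congr rfl (g := fun j => (1 + v j) * φ (eI i)) fun j _ => by
      rcases zmod_cases (v j) with e | e
      · rw [e, add_zero, hcl j i (e.trans hi.symm)]
      · rw [hB j e, e, two_self, zero_mul, mul_zero], ← Finset.sum_mul, Finset.sum_add_distrib, hodd,
      Finset.sum_const, Finset.card_univ, nsmul_eq_mul, card_I_zero, zero_mul, zero_add, one_mul]
  show φ u = _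
  rw [hexp]
  refine Finset.sum_congr rfl fun i _ => ?_
  rcases zmod_cases (v i) with e | e
  · rw [hC i e, e, add_zero, one_mul, mul_one]
  · rw [hB i e, e, two_self, zero_mul, mul_zero]

end Tr

/-- The number of vectors fixed by the permutation. -/
noncomputable def NE (x : W n) : ℕ := Nat.card {u : I n → ZMod 2 // ∀ i, u (x.σ i) = u i}

theorem Tr.NE_eq {v : I n → ZMod 2} {t₂ : W n} (T : Tr (ev v) t₂) (hn : 2 ≤ n) (hodd : ∑ i, v i = 1)
    (h2 : t₂.σ = 1 → ∑ i, t₂.v i = 1) {x : W n} (hx : x ∈ Cn (ev v)) : NE (T.F x) = NE x := by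
  classical
  have hσ := T.F_vec hn hodd h2
  let g : (I n → ZMod 2) → I n → ZMod 2 := fun u => (T.F (ev u)).v
  have hg : ∀ u, T.F (ev u) = ev (g u) := fun u => eq_ev (hσ u)
  have hinj : Function.Injective g := fun a b h =>
    ev_inj (T.F_inj (ev_mem_Cn v a) (ev_mem_Cn v b) (by rw [hg, hg, h]))
  let e := Equiv.ofBijective g ⟨hinj, Finite.injective_iff_surjective.mp hinj⟩
  refine (Nat.card_congr (e.subtypeEquiv fun u => ?_)).symm
  show _ ↔ ∀ i, g u ((T.F x).σ i) = g u i
  rw [← comm_ev_iff, ← comm_ev_iff (v := g u), ← hg]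
  refine ⟨fun h => ?_, fun h => T.F_inj (mul_mem hx (ev_mem_Cn v u)) (mul_mem (ev_mem_Cn v u) hx) ?_⟩
  · rw [← T.F_mul hx (ev_mem_Cn v u), ← T.F_mul (ev_mem_Cn v u) hx, h]
  · rw [T.F_mul hx (ev_mem_Cn v u), T.F_mul (ev_mem_Cn v u) hx, h]

end CfsgLib.AltCentClasses
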