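import Cfsg.Agent.Lib.AltCentClasses.Descend

/-!
The number of classes of involutions.
-/

set_option autoImplicit false
set_option linter.unusedSimpArgs false
set_option linter.unusedSectionVars false
set_option linter.style.haveILetI false

namespace CfsgLib.AltCentClasses

open Equiv Subgroup

variable {n : ℕ} {G : Type*} [Group G] [Finite G]

/-- The first blocks. -/
def Bk (k : Fin n) : I n → ZMod 2 := fun i => if i.1 ≤ k then 1 else 0

theorem Bk_pr (k : Fin n) (i : I n) : Bk k (pr i) = Bk k i := if_congr (by rw [pr_fst]) rfl rfl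

theorem wt_Bk (k : Fin n) : wt (Bk k) = 2 * ((k : ℕ) + 1) := by
  classical
  rw [wt, show Finset.univ.filter (fun i => Bk k i = 1) = (Finset.Iic k) ×ˢ (Finset.univ : Finset Bool) from ?_,
    Finset.card_product, Fin.card_Iic, Finset.card_univ, Fintype.card_bool, mul_comm]
  ext i
  by_cases h : i.1 ≤ k <;> simp [Bk, h]

theorem ev_sq (v : I n → ZMod 2) : ev v * ev v = 1 := by
  rw [ev_mul]; exact (congrArg ev (funext fun _ => two_self _)).trans ev_zero

namespace Ctx

variable (K : Ctx G n)

include K in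
/-- Every involution is conjugate into the wreath product. -/
theorem exists_model {x : G} (hx : orderOf x = 2) : ∃ a : W n, a * a = 1 ∧ a ≠ 1 ∧ IsConj x (K.ι a) := by
  haveI : Fact (Nat.Prime 2) := ⟨Nat.prime_two⟩
  obtain ⟨S₀⟩ : Nonempty (Sylow 2 (W n)) := inferInstance
  obtain ⟨T, hT⟩ := K.sylow_map S₀
  have hp : IsPGroup 2 (zpowers x) := IsPGroup.of_card (n := 1) (by rw [Nat.card_zpowers, hx, pow_one])
  obtain ⟨R, hR⟩ := hp.exists_le_sylow
  obtain ⟨g, hg⟩ := MulAction.exists_smul_eq G R T
  have hm : g * x * g⁻¹ ∈ (T : Subgroup G) := by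
    rw [← hg, Sylow.coe_subgroup_smul, Subgroup.pointwise_smul_def]
    exact ⟨x, hR (mem_zpowers x), rfl⟩
  rw [hT] at hm
  obtain ⟨a, -, ha⟩ := hm
  have hx2 : x * x = 1 := by rw [← pow_two, ← hx, pow_orderOf_eq_one]
  refine ⟨a, K.ι_inj ?_, fun e => ?_, isConj_iff.mpr ⟨g, ha.symm⟩⟩
  · rw [map_mul, ha, map_one, show g * x * g⁻¹ * (g * x * g⁻¹) = g * (x * x) * g⁻¹ by group, hx2]
    group
  · rw [e, map_one] at ha
    have : x = 1 := by
      calc x = g⁻¹ * (g * x * g⁻¹) * g := by group
        _ = 1 := by rw [← ha]; group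
    rw [this, orderOf_one] at hx
    omega

/-- In the smallest case there is one class. -/
theorem small (hn : n = 1) {a : W n} (ha : a * a = 1) (ha1 : a ≠ 1) : IsConj K.t (K.ι a) := by
  subst hn
  obtain ⟨hσ, hv⟩ := sq_iff.mp ha
  have hpat : ∀ i : I 1, a.σ i = i ∨ a.σ i = pr i := fun i => eq_or_pr (Subsingleton.elim _ _)
  have hB : BlockWise a.σ := fun i => Subsingleton.elim _ _
  by_cases h : a.σ = 1
  · rw [eq_ev h] at ha1 ⊢
    obtain ⟨s, hs, hst⟩ := K.exists_odd 0
    have k1 : ∀ v : I 1 → ZMod 2, ∑ i, v i = 1 → (Finset.univ.filter fun i => v i = 1).card = 1 := by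
      decide +kernel
    have k2 : ∀ v : I 1 → ZMod 2, v ≠ 0 → v = (fun _ => 1) ∨ ∑ i, v i = 1 := by decide +kernel
    rcases k2 a.v (fun e => ha1 (by rw [e]; exact ev_zero)) with e | e
    · rw [e]
      show IsConj K.t (K.ι zW)
      rw [K.ι_z]
    · exact hst.trans (K.cj_of_wt ((k1 s hs).trans (k1 _ e).symm))
  · obtain ⟨t', -, hs', -, ht', -, -⟩ := K.exists_pair 0
    have hσ' : a.σ = tk 0 := by
      refine Perm.ext fun i => ?_
      rw [tk_apply, if_pos (Subsingleton.elim _ _)]
      rcases hpat i with e | e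
      · refine absurd (Perm.ext fun j => ?_) h
        rcases eq_or_pr (show j.1 = i.1 from Subsingleton.elim _ _) with rfl | rfl
        · exact e
        · rw [hB.pr, e]; rfl
      · exact e
    have hconst : ∀ i, a.v i = a.v (0, false) := by
      intro i
      rcases eq_or_pr (show i.1 = ((0, false) : I 1).1 from Subsingleton.elim _ _) with rfl | rfl
      · rfl
      · rw [← hv (0, false), hσ', tk_apply, if_pos rfl]
    have hconst' : ∀ i, t'.v i = t'.v (0, false) := by
      intro i
      rcases eq_or_pr (show i.1 = ((0, false) : I 1).1 from Subsingleton.elim _ _) with rfl | rfl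
      · rfl
      · exact hs'.2 _
    refine ht'.trans ?_
    by_cases he : a.v (0, false) = t'.v (0, false)
    · rw [show a = t' from W.ext (funext fun i => by rw [hconst, hconst', he]) (hσ'.trans hs'.1.symm)]
    · refine isConj_iff.mpr ⟨K.ι (ev (eI (0, false))), ?_⟩
      rw [← map_inv, ← map_mul, ← map_mul]
      refine congrArg K.ι ?_
      rw [inv_eq_of_mul_eq_one_right (ev_sq _)]
      refine W.ext (funext fun i => ?_) (by simp [mul_σ, ev_σ, hs'.1, hσ'])
      simp only [mul_v, mul_σ, ev_σ, ev_v, one_mul, inv_one, Perm.one_apply, hs'.1, (tk_blockWise 0).inv]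
      rw [hconst i, hconst' i, tk_apply, if_pos (Subsingleton.elim _ _)]
      revert he
      generalize a.v (0, false) = p, t'.v (0, false) = q
      rcases eq_or_pr (show i.1 = ((0, false) : I 1).1 from Subsingleton.elim _ _) with rfl | rfl <;>
        revert p q <;> decide

include K in
/-- There are exactly `n` classes of involutions. -/
theorem card_classes (hn : 1 ≤ n) :
    Nat.card {c : ConjClasses G // ∃ x ∈ c.carrier, orderOf x = 2} = n := by
  classical
  have hord : ∀ k : Fin n, orderOf (K.ι (ev (Bk k))) = 2 := by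
    intro k
    refine orderOf_eq_prime (by rw [pow_two, ← map_mul, ev_sq, map_one]) fun e => ?_
    have := congrFun (congrArg W.v (K.ι_inj (e.trans (map_one K.ι).symm))) (k, false)
    simp [Bk, ev_v, one_v] at this
  let f : Fin n → {c : ConjClasses G // ∃ x ∈ c.carrier, orderOf x = 2} := fun k =>
    ⟨ConjClasses.mk (K.ι (ev (Bk k))), _, ConjClasses.mem_carrier_mk, hord k⟩
  have hinj : Function.Injective f := by
    intro k l h
    rcases Nat.lt_or_ge n 2 with h2 | h2
    · obtain rfl : n = 1 := by omega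
      exact Subsingleton.elim _ _
    · have hc : K.Cj (ev (Bk k)) (ev (Bk l)) := ConjClasses.mk_eq_mk_iff_isConj.mp (congrArg Subtype.val h)
      have := K.wt_eq h2 (sum_pr (Bk_pr k)) (sum_pr (Bk_pr l)) hc
      rw [wt_Bk, wt_Bk] at this
      exact Fin.ext (by omega)
  have hsurj : Function.Surjective f := by
    rintro ⟨c, x, hxc, hx⟩
    suffices h : ∃ k, IsConj x (K.ι (ev (Bk k))) by
      obtain ⟨k, hk⟩ := h
      refine ⟨k, Subtype.ext ?_⟩
      show ConjClasses.mk _ = c
      rw [← ConjClasses.mem_carrier_iff_mk_eq.mp hxc]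
      exact ConjClasses.mk_eq_mk_iff_isConj.mpr hk.symm
    obtain ⟨a, ha, ha1, hxa⟩ := K.exists_model hx
    rcases Nat.lt_or_ge n 2 with h2 | h2
    · obtain rfl : n = 1 := by omega
      refine ⟨0, hxa.trans ((K.small rfl ha ha1).symm.trans ?_)⟩
      rw [← K.ι_z]
      exact K.cj_of_wt (v := fun _ => 1) (by rw [wt_Bk]; decide)
    · obtain ⟨v, hv, hav⟩ := K.exists_vector h2 ha
      have heven : Even (wt v) := even_filter v hv
      have hpos : 0 < wt v := by
        refine Finset.card_pos.mpr ?_
        by_contra hne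
        rw [Finset.not_nonempty_iff_eq_empty] at hne
        have hz : v = 0 := funext fun i => (zmod_cases (v i)).resolve_right fun e => by
          have : i ∈ (∅ : Finset (I n)) := hne ▸ Finset.mem_filter.mpr ⟨Finset.mem_univ _, e⟩
          simp at this
        rw [hz, ev_zero] at hav
        have h1 : IsConj (K.ι a) (1 : G) := by rw [← map_one K.ι]; exact hav
        exact ha1 (K.ι_inj ((isConj_one_left.mp h1).trans (map_one K.ι).symm))
      have hle : wt v ≤ 2 * n := by
        refine (Finset.card_le_univ _).trans ?_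
        rw [Fintype.card_prod, Fintype.card_fin, Fintype.card_bool, mul_comm]
      obtain ⟨j, hj⟩ := heven
      refine ⟨⟨j - 1, by omega⟩, hxa.trans (hav.trans (K.cj_of_wt ?_))⟩
      rw [wt_Bk]
      show wt v = 2 * (j - 1 + 1)
      omega
  rw [← Nat.card_congr (Equiv.ofBijective f ⟨hinj, hsurj⟩), Nat.card_fin]

end Ctx

end CfsgLib.AltCentClasses
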