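import Mathlib

/-!
The wreath product of a group of order two with the symmetric group on `Fin n × Bool`, in coordinates.
-/

set_option autoImplicit false

namespace CfsgLib.AltCentClasses

open Equiv

/-- The places, in blocks of two. -/
abbrev I (n : ℕ) : Type := Fin n × Bool

/-- A vector together with a permutation of the places. -/
@[ext] structure W (n : ℕ) where
  v : I n → ZMod 2
  σ : Perm (I n)

variable {n : ℕ}

instance : One (W n) := ⟨⟨0, 1⟩⟩
instance : Mul (W n) := ⟨fun x y => ⟨fun i => x.v i + y.v (x.σ⁻¹ i), x.σ * y.σ⟩⟩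
instance : Inv (W n) := ⟨fun x => ⟨fun i => x.v (x.σ i), x.σ⁻¹⟩⟩

theorem mul_v (x y : W n) (i : I n) : (x * y).v i = x.v i + y.v (x.σ⁻¹ i) := rfl
theorem mul_σ (x y : W n) : (x * y).σ = x.σ * y.σ := rfl
theorem one_v (i : I n) : (1 : W n).v i = 0 := rfl
theorem one_σ : (1 : W n).σ = 1 := rfl
theorem inv_v (x : W n) (i : I n) : (x⁻¹).v i = x.v (x.σ i) := rfl
theorem inv_σ (x : W n) : (x⁻¹).σ = x.σ⁻¹ := rfl

theorem two_self (a : ZMod 2) : a + a = 0 := CharTwo.add_self_eq_zero a

theorem inv_app {α : Type*} (σ : Perm α) (i : α) : σ⁻¹ (σ i) = i := σ.symm_apply_apply i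

theorem app_inv {α : Type*} (σ : Perm α) (i : α) : σ (σ⁻¹ i) = i := σ.apply_symm_apply i

theorem eq_of_add {a b : ZMod 2} (h : a + b = 0) : a = b := by
  revert a b; decide

theorem zmod_cases (a : ZMod 2) : a = 0 ∨ a = 1 := by revert a; decide

instance : Group (W n) := Group.ofLeftAxioms
  (fun x y z => by
    refine W.ext (funext fun i => ?_) (mul_assoc _ _ _)
    show _ + _ + _ = _ + (_ + _)
    rw [mul_σ, mul_inv_rev, Perm.mul_apply, add_assoc]
    )
  (fun x => by
    refine W.ext (funext fun i => ?_) (one_mul _)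
    show 0 + x.v ((1 : Perm (I n))⁻¹ i) = x.v i
    simp)
  (fun x => by
    refine W.ext (funext fun i => ?_) (inv_mul_cancel _)
    show x.v (x.σ i) + x.v ((x.σ⁻¹)⁻¹ i) = 0
    rw [inv_inv]
    exact two_self _)

instance : Finite (W n) :=
  Finite.of_injective (fun x => (x.v, x.σ)) fun x y h => W.ext (congrArg Prod.fst h) (congrArg Prod.snd h)

/-- A vector. -/
def ev (v : I n → ZMod 2) : W n := ⟨v, 1⟩

/-- A permutation. -/
def pp (σ : Perm (I n)) : W n := ⟨0, σ⟩

/-- The all-one vector. -/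
def zW : W n := ev fun _ => 1

theorem ev_v (v : I n → ZMod 2) : (ev v).v = v := rfl
theorem ev_σ (v : I n → ZMod 2) : (ev v).σ = 1 := rfl
theorem pp_v (σ : Perm (I n)) (i : I n) : (pp σ).v i = 0 := rfl
theorem pp_σ (σ : Perm (I n)) : (pp σ).σ = σ := rfl

theorem ev_mul (v w : I n → ZMod 2) : ev v * ev w = ev (v + w) := by
  refine W.ext (funext fun i => ?_) (one_mul _)
  show v i + w ((1 : Perm (I n))⁻¹ i) = v i + w i
  simp

theorem ev_zero : ev (0 : I n → ZMod 2) = 1 := rfl

theorem ev_inj {v w : I n → ZMod 2} (h : ev v = ev w) : v = w := congrArg W.v h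

theorem eq_ev {x : W n} (h : x.σ = 1) : x = ev x.v := W.ext rfl h

theorem pp_mul (σ τ : Perm (I n)) : pp σ * pp τ = pp (σ * τ) := by
  refine W.ext (funext fun i => ?_) rfl
  show (0 : ZMod 2) + 0 = 0
  simp

theorem ev_mul_pp (x : W n) : x = ev x.v * pp x.σ := by
  refine W.ext (funext fun i => ?_) (one_mul _).symm
  show _ = x.v i + 0
  simp

/-- Two elements commute. -/
theorem comm_iff {x y : W n} :
    x * y = y * x ↔ x.σ * y.σ = y.σ * x.σ ∧ ∀ i, x.v i + y.v (x.σ⁻¹ i) = y.v i + x.v (y.σ⁻¹ i) := by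
  constructor
  · intro h
    exact ⟨congrArg W.σ h, fun i => congrFun (congrArg W.v h) i⟩
  · rintro ⟨h1, h2⟩
    exact W.ext (funext h2) h1

theorem comm_ev_iff {x : W n} {v : I n → ZMod 2} : x * ev v = ev v * x ↔ ∀ i, v (x.σ i) = v i := by
  rw [comm_iff]
  constructor
  · rintro ⟨-, h⟩ i
    have := h (x.σ i)
    simp only [ev_v, ev_σ, inv_one, Perm.one_apply, inv_app] at this
    rw [add_comm (x.v (x.σ i))] at this
    exact (add_right_cancel this).symm
  · intro h
    refine ⟨by simp [ev_σ], fun i => ?_⟩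
    simp only [ev_v, ev_σ, inv_one, Perm.one_apply]
    conv_rhs => rw [← app_inv x.σ i]
    rw [h, app_inv, add_comm]

theorem comm_ev_ev (v w : I n → ZMod 2) : ev v * ev w = ev w * ev v := by
  rw [ev_mul, ev_mul, add_comm]

theorem conj_ev (x : W n) (v : I n → ZMod 2) : x * ev v * x⁻¹ = ev fun i => v (x.σ⁻¹ i) := by
  rw [mul_inv_eq_iff_eq_mul]
  refine W.ext (funext fun i => ?_) (by simp [mul_σ, ev_σ])
  simp only [mul_v, ev_v, ev_σ, inv_one, Perm.one_apply]
  exact add_comm _ _

theorem z_comm (x : W n) : x * zW = zW * x := comm_ev_iff.mpr fun _ => rfl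

theorem zW_v (i : I n) : (zW : W n).v i = 1 := rfl

theorem z_sq : (zW : W n) * zW = 1 := by
  rw [zW, ev_mul]; exact congrArg ev (funext fun _ => two_self _)

theorem z_ne [NeZero n] : (zW : W n) ≠ 1 := fun h => by
  have := congrFun (congrArg W.v h) (0, false)
  exact one_ne_zero this

theorem sq_iff {x : W n} : x * x = 1 ↔ x.σ * x.σ = 1 ∧ ∀ i, x.v (x.σ i) = x.v i := by
  constructor
  · intro h
    refine ⟨congrArg W.σ h, fun i => ?_⟩
    have := congrFun (congrArg W.v h) (x.σ i)
    rw [mul_v, one_v, inv_app] at this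
    exact eq_of_add this
  · rintro ⟨h1, h2⟩
    refine W.ext (funext fun i => ?_) h1
    rw [mul_v, one_v]
    conv_lhs => arg 1; rw [← app_inv x.σ i, h2]
    exact two_self _

/-- The parity of the vector. -/
def par : W n →* Multiplicative (ZMod 2) where
  toFun x := Multiplicative.ofAdd (∑ i, x.v i)
  map_one' := by simp [one_v]
  map_mul' x y := by
    rw [← ofAdd_add]
    refine congrArg _ ?_
    simp only [mul_v, Finset.sum_add_distrib]
    congr 1
    exact Equiv.sum_comp (x.σ⁻¹ : Perm (I n)) y.v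

theorem par_eq (x : W n) : (par x).toAdd = ∑ i, x.v i := rfl

theorem par_z : par (zW : W n) = 1 := by
  refine Multiplicative.toAdd.injective ?_
  rw [par_eq, toAdd_one]
  simp only [zW_v, Finset.sum_const, Finset.card_univ, Fintype.card_prod, Fintype.card_fin, Fintype.card_bool]
  rw [nsmul_eq_mul, mul_one, Nat.cast_mul, show ((2 : ℕ) : ZMod 2) = 0 from rfl, mul_zero]

/-- The sign of the permutation. -/
def sgn : W n →* ℤˣ where
  toFun x := Perm.sign x.σ
  map_one' := by simp [one_σ]
  map_mul' x y := by rw [mul_σ, map_mul]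

/-- A basis vector. -/
def eI (j : I n) : I n → ZMod 2 := fun i => if i = j then 1 else 0

theorem eI_self (j : I n) : eI j j = 1 := if_pos rfl

theorem eI_ne {i j : I n} (h : i ≠ j) : eI j i = 0 := if_neg h

theorem fix_of_comm_eI {x : W n} {j : I n} (h : x * ev (eI j) = ev (eI j) * x) : x.σ j = j := by
  by_contra hc
  have := comm_ev_iff.mp h j
  rw [eI_self, eI_ne hc] at this
  exact zero_ne_one this

theorem conj_pp (σ : Perm (I n)) (x : W n) :
    pp σ * x * (pp σ)⁻¹ = ⟨fun i => x.v (σ⁻¹ i), σ * x.σ * σ⁻¹⟩ := by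
  refine W.ext (funext fun i => ?_) rfl
  simp [mul_v, inv_v, pp_v, pp_σ, mul_σ]

/-- An index of the places. -/
noncomputable def idx (i : I n) : ℕ := (Fintype.equivFin (I n) i : ℕ)

theorem idx_inj {i j : I n} (h : idx i = idx j) : i = j := (Fintype.equivFin (I n)).injective (Fin.ext h)

/-- The other place of the block. -/
def pr : Perm (I n) where
  toFun i := (i.1, !i.2)
  invFun i := (i.1, !i.2)
  left_inv i := by simp
  right_inv i := by simp

theorem pr_apply (k : Fin n) (b : Bool) : pr (k, b) = (k, !b) := rfl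

theorem pr_ne (i : I n) : pr i ≠ i := fun h => Bool.not_ne_self _ (congrArg Prod.snd h)

theorem pr_pr (i : I n) : pr (pr i) = i := by
  obtain ⟨k, b⟩ := i; simp [pr_apply]

theorem pr_fst (i : I n) : (pr i).1 = i.1 := rfl

theorem eq_or_pr {i j : I n} (h : j.1 = i.1) : j = i ∨ j = pr i := by
  obtain ⟨k, b⟩ := i
  obtain ⟨l, c⟩ := j
  cases b <;> cases c <;> simp_all [pr_apply]

/-- The swap of a block. -/
def tk (k : Fin n) : Perm (I n) := swap (k, false) (k, true)

theorem tk_apply (k : Fin n) (i : I n) : tk k i = if i.1 = k then pr i else i := by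
  obtain ⟨l, b⟩ := i
  by_cases h : l = k
  · subst h; cases b <;> simp [tk, pr_apply]
  · rw [if_neg h, tk, swap_apply_of_ne_of_ne] <;> simp [h]

theorem tk_tk (k : Fin n) : tk k * tk k = 1 := swap_mul_self _ _

theorem sign_tk (k : Fin n) : Perm.sign (tk k) = -1 := Perm.sign_swap (by simp)

/-- Two involutive permutations moving equally many points are conjugate. -/
theorem isConj_of_moved {α : Type*} [Fintype α] [DecidableEq α] {σ τ : Perm α} (hσ : σ * σ = 1) (hτ : τ * τ = 1)
    (h : σ.support.card = τ.support.card) : IsConj σ τ := by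
  refine Perm.isConj_iff_cycleType_eq.mpr ?_
  have key : ∀ ρ : Perm α, ρ * ρ = 1 → ∀ c ∈ ρ.cycleType, c = 2 := by
    intro ρ hρ c hc
    have h1 := Perm.dvd_of_mem_cycleType hc
    have h2 : orderOf ρ ∣ 2 := orderOf_dvd_of_pow_eq_one (by rw [pow_two, hρ])
    have h3 := Perm.two_le_of_mem_cycleType hc
    have := Nat.le_of_dvd two_pos (h1.trans h2)
    omega
  have e1 := Multiset.eq_replicate_card.mpr (key σ hσ)
  have e2 := Multiset.eq_replicate_card.mpr (key τ hτ)
  have c1 := σ.sum_cycleType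
  have c2 := τ.sum_cycleType
  rw [e1, Multiset.sum_replicate, smul_eq_mul] at c1
  rw [e2, Multiset.sum_replicate, smul_eq_mul] at c2
  rw [e1, e2]
  congr 1
  omega

/-- A fixed-point-free involution is carried to the partner map. -/
theorem exists_align {ρ : Perm (I n)} (h2 : ∀ i, ρ (ρ i) = i) (hf : ∀ i, ρ i ≠ i) :
    ∃ σ : Perm (I n), ∀ i, σ (ρ i) = pr (σ i) := by
  have e : ρ.support.card = (pr : Perm (I n)).support.card := by
    have a : ρ.support = Finset.univ := by ext i; simp [hf i]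
    have b : (pr : Perm (I n)).support = Finset.univ := by ext i; simp [pr_ne i]
    rw [a, b]
  obtain ⟨σ, hσ⟩ := isConj_iff.mp (isConj_of_moved (Perm.ext fun i => h2 i) (Perm.ext fun i => pr_pr i) e)
  refine ⟨σ, fun i => ?_⟩
  rw [← hσ]
  simp

/-- A fixed-point-free pairing inside a set of even size. -/
theorem exists_pairing {α : Type*} [Fintype α] [DecidableEq α] (h : Even (Fintype.card α)) :
    ∃ ρ : Perm α, (∀ i, ρ (ρ i) = i) ∧ ∀ i, ρ i ≠ i := by
  obtain ⟨k, hk⟩ := h
  obtain e : α ≃ I k := Fintype.equivOfCardEq (by simp [hk]; omega)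
  refine ⟨e.trans (pr.trans e.symm), fun i => by simp [pr_pr], fun i hi => pr_ne (e i) ?_⟩
  exact e.symm.injective (by simpa using hi)

end CfsgLib.AltCentClasses
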